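import Mathlib.RingTheory.Smooth.Basic
import Mathlib.RingTheory.Unramified.Basic
import Mathlib.RingTheory.Localization.Away.Basic
import Mathlib.RingTheory.Flat.Basic
import Mathlib.LinearAlgebra.TensorProduct.RightExactness

/-!
# Reductions modulo ideals of the base and the graded pieces of a flat algebra
-/

set_option autoImplicit false
universe u

open TensorProduct

namespace GrothLib.EtLift16

variable {A : Type u} [CommRing A]

/-- Reduction modulo an ideal of the base. -/
abbrev Bar (𝔞 : Ideal A) (W : Type u) [CommRing W] [Algebra A W] : Type u := W ⧸ 𝔞.map (algebraMap A W)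

/-- The quotient map. -/
abbrev bar (𝔞 : Ideal A) (W : Type u) [CommRing W] [Algebra A W] : W →ₐ[A] Bar 𝔞 W :=
  Ideal.Quotient.mkₐ A _

variable {W D E : Type u} [CommRing W] [Algebra A W] [CommRing D] [Algebra A D] [CommRing E] [Algebra A E]

/-- Reduction of a map. -/
def red (𝔞 : Ideal A) (h : W →ₐ[A] D) : Bar 𝔞 W →ₐ[A] Bar 𝔞 D :=
  Ideal.quotientMapₐ (𝔞.map (algebraMap A D)) h (Ideal.map_le_iff_le_comap.2 fun a ha => by
    rw [Ideal.mem_comap, Ideal.mem_comap]
    show h (algebraMap A W a) ∈ _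
    rw [h.commutes]
    exact Ideal.mem_map_of_mem _ ha)

theorem red_mk (𝔞 : Ideal A) (h : W →ₐ[A] D) (x : W) : red 𝔞 h (bar 𝔞 W x) = bar 𝔞 D (h x) := rfl

theorem bar_surjective (𝔞 : Ideal A) (W : Type u) [CommRing W] [Algebra A W] : Function.Surjective (bar 𝔞 W) :=
  Ideal.Quotient.mk_surjective

theorem red_comp (𝔞 : Ideal A) (h : W →ₐ[A] D) (h' : D →ₐ[A] E) :
    red 𝔞 (h'.comp h) = (red 𝔞 h').comp (red 𝔞 h) :=
  AlgHom.ext fun x => by
    obtain ⟨x, rfl⟩ := bar_surjective 𝔞 W x
    rfl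

theorem isNilpotent_map {J : Ideal A} (hJ : IsNilpotent J) (W : Type u) [CommRing W] [Algebra A W] :
    IsNilpotent (J.map (algebraMap A W)) :=
  hJ.map (Ideal.mapHom (algebraMap A W))

theorem isUnit_of_bar {J : Ideal A} (hJ : IsNilpotent J) {x : W} (h : IsUnit (bar J W x)) : IsUnit x := by
  obtain ⟨y, hy⟩ := h.exists_right_inv
  obtain ⟨y, rfl⟩ := bar_surjective J W y
  have hmem : x * y - 1 ∈ J.map (algebraMap A W) := by
    rw [← Ideal.Quotient.eq_zero_iff_mem, map_sub, map_mul, map_one, sub_eq_zero]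
    exact hy
  obtain ⟨n, hn⟩ := isNilpotent_map hJ W
  have hnil : IsNilpotent (x * y - 1) := ⟨n, by simpa [hn] using Ideal.pow_mem_pow hmem n⟩
  have := hnil.isUnit_add_one
  rw [sub_add_cancel] at this
  exact isUnit_of_mul_isUnit_left this

/-- `σ` is the localization at `a`. -/
structure Loc (a : A) {X Y : Type u} [CommRing X] [Algebra A X] [CommRing Y] [Algebra A Y] (σ : X →ₐ[A] Y) : Prop where
  unit : IsUnit (algebraMap A Y a)
  surj : ∀ y, ∃ (k : ℕ) (x : X), algebraMap A Y a ^ k * y = σ x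
  ker : ∀ x, σ x = 0 → ∃ k : ℕ, algebraMap A X a ^ k * x = 0

theorem pow_apply {a : A} (k : ℕ) (h : W →ₐ[A] D) (x : W) :
    h (algebraMap A W a ^ k * x) = algebraMap A D a ^ k * h x := by
  rw [map_mul, map_pow, h.commutes]

theorem loc_away (a : A) (X : Type u) [CommRing X] [Algebra A X] :
    Loc a (IsScalarTower.toAlgHom A X (Localization.Away (algebraMap A X a))) where
  unit := by
    have e : algebraMap A (Localization.Away (algebraMap A X a)) a =
      algebraMap X _ (algebraMap A X a) := IsScalarTower.algebraMap_apply A X _ a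
    rw [e]
    exact IsLocalization.Away.algebraMap_isUnit _
  surj y := by
    have e : algebraMap A (Localization.Away (algebraMap A X a)) a =
      algebraMap X _ (algebraMap A X a) := IsScalarTower.algebraMap_apply A X _ a
    obtain ⟨k, x, hx⟩ := IsLocalization.Away.surj (algebraMap A X a) y
    refine ⟨k, x, ?_⟩
    rw [IsScalarTower.coe_toAlgHom', ← hx, e, mul_comm]
  ker x hx := by
    obtain ⟨⟨_, k, rfl⟩, hk⟩ := (IsLocalization.map_eq_zero_iff (Submonoid.powers (algebraMap A X a))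
      (Localization.Away (algebraMap A X a)) x).1 hx
    exact ⟨k, hk⟩

variable {X Y Z : Type u} [CommRing X] [Algebra A X] [CommRing Y] [Algebra A Y] [CommRing Z] [Algebra A Z]
  {a b : A} {σ : X →ₐ[A] Y}

theorem Loc.comp (hσ : Loc a σ) {τ : Y →ₐ[A] Z} (hτ : Loc b τ) : Loc (a * b) (τ.comp σ) where
  unit := by
    rw [map_mul, IsUnit.mul_iff, ← τ.commutes a]
    exact ⟨hσ.unit.map τ, hτ.unit⟩
  surj z := by
    obtain ⟨k, y, hy⟩ := hτ.surj z
    obtain ⟨l, x, hx⟩ := hσ.surj y
    refine ⟨k + l, algebraMap A X a ^ k * (algebraMap A X b ^ l * x), ?_⟩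
    rw [AlgHom.comp_apply, pow_apply, pow_apply, pow_apply, pow_apply, ← hx, pow_apply, ← hy, map_mul, mul_pow]
    ring
  ker x hx := by
    obtain ⟨k, hk⟩ := hτ.ker (σ x) hx
    rw [← pow_apply k σ x] at hk
    obtain ⟨l, hl⟩ := hσ.ker _ hk
    refine ⟨k + l, ?_⟩
    rw [map_mul, mul_pow, show (algebraMap A X a ^ (k + l) * algebraMap A X b ^ (k + l)) * x =
      algebraMap A X a ^ k * algebraMap A X b ^ l * (algebraMap A X a ^ l * (algebraMap A X b ^ k * x)) by ring, hl,
      mul_zero]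

theorem Loc.exists_mem_map (hσ : Loc a σ) (𝔞 : Ideal A) {y : Y} (hy : y ∈ 𝔞.map (algebraMap A Y)) :
    ∃ (k : ℕ) (x : X), x ∈ 𝔞.map (algebraMap A X) ∧ algebraMap A Y a ^ k * y = σ x := by
  induction hy using Submodule.span_induction with
  | mem y hy =>
    obtain ⟨c, hc, rfl⟩ := hy
    exact ⟨0, algebraMap A X c, Ideal.mem_map_of_mem _ hc, by rw [pow_zero, one_mul, σ.commutes]⟩
  | zero => exact ⟨0, 0, zero_mem _, by simp⟩
  | add p q _ _ hp hq =>
    obtain ⟨k, x, hx, hk⟩ := hp
    obtain ⟨l, z, hz, hl⟩ := hq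
    refine ⟨k + l, algebraMap A X a ^ l * x + algebraMap A X a ^ k * z,
      add_mem (Ideal.mul_mem_left _ _ hx) (Ideal.mul_mem_left _ _ hz), ?_⟩
    rw [map_add, pow_apply, pow_apply, ← hk, ← hl]
    ring
  | smul c p _ hp =>
    obtain ⟨k, x, hx, hk⟩ := hp
    obtain ⟨l, z, hl⟩ := hσ.surj c
    refine ⟨k + l, z * x, Ideal.mul_mem_left _ _ hx, ?_⟩
    rw [map_mul, ← hk, ← hl, smul_eq_mul]
    ring

theorem Loc.red (hσ : Loc a σ) (𝔞 : Ideal A) : Loc a (red 𝔞 σ) where
  unit := by
    have := hσ.unit.map (bar 𝔞 Y)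
    rwa [AlgHom.commutes] at this
  surj y := by
    obtain ⟨y, rfl⟩ := bar_surjective 𝔞 Y y
    obtain ⟨k, x, hx⟩ := hσ.surj y
    exact ⟨k, bar 𝔞 X x, by rw [red_mk, ← hx, pow_apply]⟩
  ker x hx := by
    obtain ⟨x, rfl⟩ := bar_surjective 𝔞 X x
    have hx' : σ x ∈ 𝔞.map (algebraMap A Y) := Ideal.Quotient.eq_zero_iff_mem.1 hx
    obtain ⟨k, z, hz, hk⟩ := hσ.exists_mem_map 𝔞 hx'
    rw [← pow_apply] at hk
    obtain ⟨l, hl⟩ := hσ.ker (algebraMap A X a ^ k * x - z) (by rw [map_sub, hk, sub_self])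
    refine ⟨l + k, ?_⟩
    rw [← pow_apply]
    refine Ideal.Quotient.eq_zero_iff_mem.2 ?_
    rw [show algebraMap A X a ^ (l + k) * x = algebraMap A X a ^ l * z by
      rw [pow_add, ← sub_eq_zero, mul_assoc, ← mul_sub, hl]]
    exact Ideal.mul_mem_left _ _ hz

theorem Loc.hom_ext (hσ : Loc a σ) {g g' : Y →ₐ[A] Z} (h : g.comp σ = g'.comp σ) : g = g' :=
  AlgHom.ext fun y => by
    obtain ⟨k, x, hx⟩ := hσ.surj y
    have h1 := congrArg g hx
    have h2 := congrArg g' hx
    rw [pow_apply] at h1 h2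
    rw [← AlgHom.comp_apply, h, AlgHom.comp_apply, ← h2] at h1
    have hu : IsUnit (algebraMap A Z a ^ k) := by
      have := (hσ.unit.map g).pow k
      rwa [AlgHom.commutes] at this
    exact hu.mul_right_inj.1 h1

theorem Loc.isLocalization (hσ : Loc a σ) :
    @IsLocalization X _ (Submonoid.powers (algebraMap A X a)) Y _ σ.toRingHom.toAlgebra := by
  let inst : Algebra X Y := σ.toRingHom.toAlgebra
  letI := inst
  refine ⟨?_, ?_, ?_⟩
  · rintro ⟨_, k, rfl⟩
    show IsUnit (σ (algebraMap A X a ^ k))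
    rw [map_pow, σ.commutes]
    exact hσ.unit.pow k
  · intro y
    obtain ⟨k, x, hx⟩ := hσ.surj y
    refine ⟨(x, ⟨_, k, rfl⟩), ?_⟩
    show y * σ (algebraMap A X a ^ k) = σ x
    rw [map_pow, σ.commutes, ← hx, mul_comm]
  · intro x x' h
    obtain ⟨k, hk⟩ := hσ.ker (x - x') (by rw [map_sub, sub_eq_zero]; exact h)
    refine ⟨⟨_, k, rfl⟩, ?_⟩
    rwa [mul_sub, sub_eq_zero] at hk

theorem Loc.exists_lift (hσ : Loc a σ) (g : X →ₐ[A] Z) (hu : IsUnit (algebraMap A Z a)) :
    ∃ g' : Y →ₐ[A] Z, g'.comp σ = g := by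
  letI : Algebra X Y := σ.toRingHom.toAlgebra
  haveI : IsLocalization.Away (algebraMap A X a) Y := hσ.isLocalization
  have hu' : IsUnit (g.toRingHom (algebraMap A X a)) := by
    rw [AlgHom.toRingHom_eq_coe, RingHom.coe_coe, g.commutes]
    exact hu
  have h : ∀ x, IsLocalization.Away.lift (S := Y) _ hu' (σ x) = g x :=
    fun x => IsLocalization.Away.lift_eq _ hu' x
  exact ⟨{ IsLocalization.Away.lift (S := Y) _ hu' with
    commutes' := fun c => (by
      show IsLocalization.Away.lift (S := Y) _ hu' (algebraMap A Y c) = algebraMap A Z c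
      rw [← σ.commutes c, h, g.commutes]) }, AlgHom.ext h⟩

theorem Loc.isLocalizedModule (hσ : Loc a σ) :
    IsLocalizedModule (Submonoid.powers a) σ.toLinearMap := by
  refine ⟨?_, ?_, ?_⟩
  · rintro ⟨_, k, rfl⟩
    rw [Module.End.isUnit_iff]
    have hu : IsUnit (algebraMap A Y (a ^ k)) := by rw [map_pow]; exact hσ.unit.pow k
    constructor
    · intro p q hpq
      have h : algebraMap A Y (a ^ k) * p = algebraMap A Y (a ^ k) * q := by
        rw [← Algebra.smul_def, ← Algebra.smul_def]; exact hpq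
      exact hu.mul_right_inj.1 h
    · intro q
      refine ⟨↑(hu.unit⁻¹) * q, ?_⟩
      rw [Module.algebraMap_end_apply]
      rw [Algebra.smul_def, ← mul_assoc, IsUnit.mul_val_inv, one_mul]
  · intro y
    obtain ⟨k, x, hx⟩ := hσ.surj y
    refine ⟨(x, ⟨_, k, rfl⟩), ?_⟩
    show a ^ k • y = σ x
    rw [Algebra.smul_def, map_pow, hx]
  · intro x x' h
    obtain ⟨k, hk⟩ := hσ.ker (x - x') (by rw [map_sub, sub_eq_zero]; exact h)
    refine ⟨⟨_, k, rfl⟩, ?_⟩
    show a ^ k • x = a ^ k • x'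
    rw [mul_sub, sub_eq_zero] at hk
    rwa [Algebra.smul_def, Algebra.smul_def, map_pow]

section etale

variable {J : Ideal A} (hJ : IsNilpotent J)

include hJ in
theorem exists_hom [Algebra.FormallySmooth A W] {σ : X →ₐ[A] Bar J W} (hσ : Loc a σ)
    (g : X →ₐ[A] Bar J D) (hu : IsUnit (algebraMap A D a)) :
    ∃ h : W →ₐ[A] D, (GrothLib.EtLift16.red J h).comp σ = g := by
  obtain ⟨g', hg'⟩ := hσ.exists_lift g (by
    have := hu.map (bar J D)
    rwa [AlgHom.commutes] at this)
  refine ⟨Algebra.FormallySmooth.lift _ (isNilpotent_map hJ D) (g'.comp (bar J W)), ?_⟩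
  rw [← hg']
  refine congrArg (fun t : Bar J W →ₐ[A] Bar J D => t.comp σ) (AlgHom.ext fun w => ?_)
  obtain ⟨w, rfl⟩ := bar_surjective J W w
  rw [red_mk]
  exact Algebra.FormallySmooth.mk_lift _ (isNilpotent_map hJ D) (g'.comp (bar J W)) w

include hJ in
theorem hom_ext [Algebra.FormallyUnramified A W] {σ : X →ₐ[A] Bar J W} (hσ : Loc a σ) {h h' : W →ₐ[A] D}
    (e : (GrothLib.EtLift16.red J h).comp σ = (GrothLib.EtLift16.red J h').comp σ) : h = h' :=
  Algebra.FormallyUnramified.ext _ (isNilpotent_map hJ D) fun x =>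
    AlgHom.congr_fun (hσ.hom_ext e) (bar J W x)

end etale

section graded

variable (J : Ideal A) (k : ℕ)

theorem smul_mem_succ (j : ↥(J ^ k)) {x : W} (hx : x ∈ J.map (algebraMap A W)) :
    (j : A) • x ∈ (J ^ (k + 1)).map (algebraMap A W) := by
  rw [Algebra.smul_def, pow_succ, Ideal.map_mul]
  exact Ideal.mul_mem_mul (Ideal.mem_map_of_mem _ j.2) hx

theorem bar_smul_congr (j : ↥(J ^ k)) {x y : W} (h : bar J W x = bar J W y) :
    bar (J ^ (k + 1)) W ((j : A) • x) = bar (J ^ (k + 1)) W ((j : A) • y) := by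
  refine Ideal.Quotient.eq.2 ?_
  rw [← smul_sub]
  exact smul_mem_succ J k j (Ideal.Quotient.eq.1 h)

/-- A chosen representative. -/
noncomputable def rep (w : Bar J W) : W := Function.surjInv (bar_surjective J W) w

theorem bar_rep (w : Bar J W) : bar J W (rep J w) = w := Function.surjInv_eq _ w

variable (W) in
/-- The map onto the graded piece. -/
noncomputable def tau : Bar J W ⊗[A] ↥(J ^ k) →ₗ[A] Bar (J ^ (k + 1)) W :=
  TensorProduct.lift (LinearMap.mk₂ A (fun w j => bar (J ^ (k + 1)) W ((j : A) • rep J w))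
    (fun w w' j => by
      rw [← map_add, ← smul_add]
      exact bar_smul_congr J k j (by rw [map_add, bar_rep, bar_rep, bar_rep]))
    (fun c w j => by
      rw [← map_smul, smul_comm]
      exact bar_smul_congr J k j (by rw [map_smul, bar_rep, bar_rep]))
    (fun w j j' => by rw [Submodule.coe_add, add_smul, map_add])
    (fun c w j => by rw [Submodule.coe_smul, smul_assoc, map_smul]))

theorem tau_tmul (x : W) (j : ↥(J ^ k)) :
    tau W J k (bar J W x ⊗ₜ j) = bar (J ^ (k + 1)) W ((j : A) • x) :=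
  bar_smul_congr J k j (bar_rep J _)

/-- Multiplication. -/
noncomputable def theta : W ⊗[A] ↥(J ^ k) →ₗ[A] W :=
  (TensorProduct.rid A W).toLinearMap ∘ₗ (Submodule.subtype (J ^ k)).lTensor W

theorem theta_tmul (x : W) (j : ↥(J ^ k)) : theta J k (x ⊗ₜ j) = (j : A) • x := rfl

theorem tau_rTensor (u : W ⊗[A] ↥(J ^ k)) :
    tau W J k ((bar J W).toLinearMap.rTensor _ u) = bar (J ^ (k + 1)) W (theta J k u) := by
  induction u using TensorProduct.induction_on with
  | zero => simp
  | add p q hp hq => simp only [map_add, hp, hq]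
  | tmul x j => exact tau_tmul J k x j

theorem exists_theta {x : W} (hx : x ∈ (J ^ k).map (algebraMap A W)) : ∃ u, theta J k u = x := by
  induction hx using Submodule.span_induction with
  | mem x hx =>
    obtain ⟨c, hc, rfl⟩ := hx
    exact ⟨(1 : W) ⊗ₜ ⟨c, hc⟩, by rw [theta_tmul, Algebra.smul_def, mul_one]⟩
  | zero => exact ⟨0, map_zero _⟩
  | add p q _ _ hp hq =>
    obtain ⟨u, rfl⟩ := hp
    obtain ⟨v, rfl⟩ := hq
    exact ⟨u + v, map_add _ _ _⟩
  | smul c p _ hp =>
    obtain ⟨u, rfl⟩ := hp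
    refine ⟨c • u, ?_⟩
    have key : ∀ v : W ⊗[A] ↥(J ^ k), theta J k (c • v) = c • theta J k v := fun v => by
      induction v using TensorProduct.induction_on with
      | zero => simp
      | add p q hp hq => simp only [smul_add, map_add, hp, hq]
      | tmul w j => rw [smul_tmul', theta_tmul, theta_tmul, smul_comm]
    exact key u

theorem exists_theta_succ {x : W} (hx : x ∈ (J ^ (k + 1)).map (algebraMap A W)) :
    ∃ u, theta J k u = x ∧ (bar J W).toLinearMap.rTensor _ u = 0 := by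
  rw [Ideal.map, pow_succ] at hx
  induction hx using Submodule.span_induction with
  | mem x hx =>
    obtain ⟨c, hc, rfl⟩ := hx
    induction hc using Submodule.mul_induction_on' with
    | mem_mul_mem p hp q hq =>
      refine ⟨algebraMap A W q ⊗ₜ ⟨p, hp⟩, by rw [theta_tmul, Algebra.smul_def, map_mul], ?_⟩
      rw [LinearMap.rTensor_tmul, AlgHom.toLinearMap_apply,
        show bar J W (algebraMap A W q) = 0 from
          Ideal.Quotient.eq_zero_iff_mem.2 (Ideal.mem_map_of_mem _ hq), zero_tmul]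
    | add p _ q _ hp hq =>
      obtain ⟨u, hu, hu'⟩ := hp
      obtain ⟨v, hv, hv'⟩ := hq
      exact ⟨u + v, by rw [map_add, hu, hv, map_add], by rw [map_add, hu', hv', add_zero]⟩
  | zero => exact ⟨0, map_zero _, map_zero _⟩
  | add p q _ _ hp hq =>
    obtain ⟨u, hu, hu'⟩ := hp
    obtain ⟨v, hv, hv'⟩ := hq
    exact ⟨u + v, by rw [map_add, hu, hv], by rw [map_add, hu', hv', add_zero]⟩
  | smul c p _ hp =>
    obtain ⟨u, rfl, hu'⟩ := hp
    refine ⟨(LinearMap.mulLeft A c).rTensor _ u, ?_, ?_⟩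
    · have key : ∀ v : W ⊗[A] ↥(J ^ k),
          theta J k ((LinearMap.mulLeft A c).rTensor _ v) = c • theta J k v := fun v => by
        induction v using TensorProduct.induction_on with
        | zero => simp
        | add p q hp hq => simp only [map_add, smul_add, hp, hq]
        | tmul w j => simp [theta_tmul, smul_eq_mul]
      exact key u
    · have : (bar J W).toLinearMap ∘ₗ LinearMap.mulLeft A c =
          LinearMap.mulLeft A (bar J W c) ∘ₗ (bar J W).toLinearMap := LinearMap.ext fun w => map_mul (bar J W) c w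
      rw [← LinearMap.rTensor_comp_apply, this, LinearMap.rTensor_comp_apply, hu', map_zero]

theorem tau_injective [Module.Flat A W] : Function.Injective (tau W J k) := by
  refine (injective_iff_map_eq_zero _).2 fun z hz => ?_
  obtain ⟨u, rfl⟩ := LinearMap.rTensor_surjective (↥(J ^ k)) (g := (bar J W).toLinearMap) (bar_surjective J W) z
  rw [tau_rTensor] at hz
  obtain ⟨v, hv, hv'⟩ := exists_theta_succ J k (Ideal.Quotient.eq_zero_iff_mem.1 hz)
  have hinj : Function.Injective (theta (W := W) J k) :=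
    (TensorProduct.rid A W).injective.comp
      (Module.Flat.lTensor_preserves_injective_linearMap _ (Submodule.injective_subtype _))
  rw [← hinj hv, hv']

theorem exists_tau_eq {x : W} (hx : x ∈ (J ^ k).map (algebraMap A W)) :
    ∃ z, tau W J k z = bar (J ^ (k + 1)) W x := by
  obtain ⟨u, rfl⟩ := exists_theta J k hx
  exact ⟨_, tau_rTensor J k u⟩

theorem tau_natural (h : W →ₐ[A] D) (z : Bar J W ⊗[A] ↥(J ^ k)) :
    tau D J k ((GrothLib.EtLift16.red J h).toLinearMap.rTensor _ z) =
      GrothLib.EtLift16.red (J ^ (k + 1)) h (tau W J k z) := by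
  induction z using TensorProduct.induction_on with
  | zero => simp
  | add p q hp hq => simp only [map_add, hp, hq]
  | tmul x j =>
    obtain ⟨x, rfl⟩ := bar_surjective J W x
    rw [LinearMap.rTensor_tmul, AlgHom.toLinearMap_apply, red_mk, tau_tmul, tau_tmul, red_mk]
    simp only [map_smul]

end graded

end GrothLib.EtLift16
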