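import Groth.Agent.Lib.EtLift16.Kappa
import Groth.Agent.Lib.Hensel.FiniteEtaleLift
import Mathlib.RingTheory.Localization.BaseChange
import Mathlib.RingTheory.Etale.Basic

/-!
# Local étale lifts and the glueing data between them
-/

set_option autoImplicit false
universe u

open TensorProduct

namespace GrothLib.EtLift16

variable {A : Type u} [CommRing A]

/-- The localization at an element of the base. -/
abbrev Away' (X : Type u) [CommRing X] [Algebra A X] (c : A) : Type u := Localization.Away (algebraMap A X c)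

/-- The localization map. -/
abbrev toAway (X : Type u) [CommRing X] [Algebra A X] (c : A) : X →ₐ[A] Away' X c :=
  IsScalarTower.toAlgHom A X _

theorem loc_toAway (X : Type u) [CommRing X] [Algebra A X] (c : A) : Loc c (toAway X c) := loc_away c X

theorem isUnit_algebraMap_of_hom {X Y : Type u} [CommRing X] [Algebra A X] [CommRing Y] [Algebra A Y]
    (h : X →ₐ[A] Y) {c : A} (hc : IsUnit (algebraMap A X c)) : IsUnit (algebraMap A Y c) := by
  rw [← h.commutes]
  exact hc.map h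

variable {X Y Y' : Type u} [CommRing X] [Algebra A X] [CommRing Y] [Algebra A Y] [CommRing Y'] [Algebra A Y']
  {c : A} {σ : X →ₐ[A] Y}

theorem Loc.of_equiv (hσ : Loc c σ) (e : Y ≃ₐ[A] Y') {τ : X →ₐ[A] Y'} (he : ∀ x, e (σ x) = τ x) : Loc c τ where
  unit := isUnit_algebraMap_of_hom e.toAlgHom hσ.unit
  surj y := by
    obtain ⟨k, x, hx⟩ := hσ.surj (e.symm y)
    exact ⟨k, x, by rw [← he, ← hx, map_mul, map_pow, e.commutes, e.apply_symm_apply]⟩
  ker x hx := hσ.ker x (e.injective (by rw [he, hx, map_zero]))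

theorem Loc.rTensor_surj (hσ : Loc c σ) (M : Type u) [AddCommGroup M] [Module A M] (z : Y ⊗[A] M) :
    ∃ (k : ℕ) (t : X ⊗[A] M), σ.toLinearMap.rTensor M t = c ^ k • z := by
  haveI := hσ.isLocalizedModule
  obtain ⟨⟨t, ⟨_, k, rfl⟩⟩, ht⟩ := IsLocalizedModule.surj (Submonoid.powers c)
    (AlgebraTensorModule.rTensor A M σ.toLinearMap) z
  exact ⟨k, t, ht.symm⟩

theorem Loc.rTensor_ker (hσ : Loc c σ) (M : Type u) [AddCommGroup M] [Module A M] (t : X ⊗[A] M)
    (ht : σ.toLinearMap.rTensor M t = 0) : ∃ k : ℕ, c ^ k • t = 0 := by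
  haveI := hσ.isLocalizedModule
  obtain ⟨⟨_, k, rfl⟩, hk⟩ := IsLocalizedModule.exists_of_eq (S := Submonoid.powers c)
    (f := AlgebraTensorModule.rTensor A M σ.toLinearMap) (x₁ := t) (x₂ := 0)
    (show σ.toLinearMap.rTensor M t = σ.toLinearMap.rTensor M 0 by rw [ht, map_zero])
  exact ⟨k, by simpa [Submonoid.smul_def] using hk⟩

variable (J : Ideal A) (B₀ C : Type u) [CommRing B₀] [Algebra A B₀] [CommRing C] [Algebra A C]
  [Algebra B₀ (Bar J C)] [IsScalarTower A B₀ (Bar J C)] {ι : Type} (f : ι → A)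

/-- Local lifts of `B₀` with their glueing maps and maps to the localizations of `C`. -/
structure Setup where
  W : ι → Type u
  [ringW : ∀ i, CommRing (W i)]
  [algW : ∀ i, Algebra A (W i)]
  [etW : ∀ i, Algebra.Etale A (W i)]
  σ : ∀ i, B₀ →ₐ[A] Bar J (W i)
  locσ : ∀ i, Loc (f i) (σ i)
  φ : ∀ i, W i →ₐ[A] Away' C (f i)
  redφ : ∀ i (r : B₀), red J (φ i) (σ i r) = red J (toAway C (f i)) (algebraMap B₀ (Bar J C) r)
  b : ∀ i j, W j →ₐ[A] Away' (W i) (f j)
  redb : ∀ i j (r : B₀), red J (b i j) (σ j r) = red J (toAway (W i) (f j)) (σ i r)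

attribute [instance] Setup.ringW Setup.algW Setup.etW

theorem nonempty_setup [Algebra (A ⧸ J) B₀] [IsScalarTower A (A ⧸ J) B₀] (hJ : IsNilpotent J)
    (hB₀ : ∀ i, Algebra.Etale (A ⧸ J) (Localization.Away (algebraMap A B₀ (f i)))) :
    Nonempty (Setup J B₀ C f) := by
  have h : ∀ i, ∃ (W : Type u) (_ : CommRing W) (_ : Algebra A W) (σ : B₀ →ₐ[A] Bar J W),
      Algebra.Etale A W ∧ Loc (f i) σ := fun i => by
    haveI := hB₀ i
    obtain ⟨W, _, _, π, hW, hπ, hker⟩ := GrothLib.Hensel.exists_etale_lift J (Away' B₀ (f i))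
    let e : Bar J W ≃ₐ[A] Away' B₀ (f i) :=
      (Ideal.quotientEquivAlgOfEq A hker.symm).trans (Ideal.quotientKerAlgEquivOfSurjective hπ)
    exact ⟨W, _, _, e.symm.toAlgHom.comp (toAway B₀ (f i)), hW,
      (loc_toAway B₀ (f i)).of_equiv e.symm fun _ => rfl⟩
  choose W ringW algW σ etW locσ using h
  have hu : ∀ i, IsUnit (algebraMap A (W i) (f i)) := fun i =>
    isUnit_of_bar hJ (by rw [AlgHom.commutes]; exact (locσ i).unit)
  have hφ : ∀ i, ∃ φ : W i →ₐ[A] Away' C (f i),
      (red J φ).comp (σ i) = (red J (toAway C (f i))).comp (IsScalarTower.toAlgHom A B₀ (Bar J C)) := fun i =>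
    haveI := etW i
    exists_hom hJ (locσ i) _ (loc_toAway C (f i)).unit
  choose φ hφ using hφ
  have hb : ∀ i j, ∃ b : W j →ₐ[A] Away' (W i) (f j),
      (red J b).comp (σ j) = (red J (toAway (W i) (f j))).comp (σ i) := fun i j =>
    haveI := etW j
    exists_hom hJ (locσ j) _ (loc_toAway (W i) (f j)).unit
  choose b hb using hb
  exact ⟨{ W := W, ringW := ringW, algW := algW, etW := etW, σ := σ, locσ := locσ, φ := φ,
           redφ := fun i r => AlgHom.congr_fun (hφ i) r, b := b,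
           redb := fun i j r => AlgHom.congr_fun (hb i j) r }⟩

namespace Setup

variable {J B₀ C f} (D : Setup J B₀ C f) (hJ : IsNilpotent J)

/-- The first restriction map. -/
abbrev a (i j : ι) : D.W i →ₐ[A] Away' (D.W i) (f j) := toAway (D.W i) (f j)

theorem loc_a (i j : ι) : Loc (f j) (D.a i j) := loc_toAway _ _

/-- The reduction of the local lift as an algebra over `B₀`. -/
noncomputable scoped instance algV (i : ι) : Algebra B₀ (Bar J (D.W i)) := (D.σ i).toRingHom.toAlgebra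

scoped instance towerV (i : ι) : IsScalarTower A B₀ (Bar J (D.W i)) :=
  IsScalarTower.of_algebraMap_eq' (D.σ i).comp_algebraMap.symm

/-- The reduction of the double localization as an algebra over `B₀`. -/
noncomputable scoped instance algV2 (i j : ι) : Algebra B₀ (Bar J (Away' (D.W i) (f j))) :=
  ((red J (D.a i j)).comp (D.σ i)).toRingHom.toAlgebra

scoped instance towerV2 (i j : ι) : IsScalarTower A B₀ (Bar J (Away' (D.W i) (f j))) :=
  IsScalarTower.of_algebraMap_eq' ((red J (D.a i j)).comp (D.σ i)).comp_algebraMap.symm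

include hJ in
theorem unitW (i : ι) : IsUnit (algebraMap A (D.W i) (f i)) :=
  isUnit_of_bar hJ (by rw [AlgHom.commutes]; exact (D.locσ i).unit)

include hJ in
theorem unit_fst (i j : ι) : IsUnit (algebraMap A (Away' (D.W i) (f j)) (f i)) :=
  isUnit_algebraMap_of_hom (D.a i j) (D.unitW hJ i)

include hJ in
theorem hom_ext {E : Type u} [CommRing E] [Algebra A E] {i : ι} {h h' : D.W i →ₐ[A] E}
    (e : ∀ r, red J h (D.σ i r) = red J h' (D.σ i r)) : h = h' :=
  GrothLib.EtLift16.hom_ext hJ (D.locσ i) (AlgHom.ext e)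

theorem red_comp_apply {U V E : Type u} [CommRing U] [Algebra A U] [CommRing V] [Algebra A V] [CommRing E]
    [Algebra A E] (𝔞 : Ideal A) (h : U →ₐ[A] V) (h' : V →ₐ[A] E) (x : Bar 𝔞 U) :
    red 𝔞 (h'.comp h) x = red 𝔞 h' (red 𝔞 h x) := AlgHom.congr_fun (red_comp 𝔞 h h') x

include hJ in
theorem exists_flip (i j : ι) : ∃ P : Away' (D.W j) (f i) →ₐ[A] Away' (D.W i) (f j),
    P.comp (D.a j i) = D.b i j ∧ P.comp (D.b j i) = D.a i j := by
  obtain ⟨P, hP⟩ := (D.loc_a j i).exists_lift (D.b i j) (D.unit_fst hJ i j)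
  refine ⟨P, hP, D.hom_ext hJ fun r => ?_⟩
  rw [red_comp_apply, D.redb, ← red_comp_apply, hP, D.redb]

include hJ in
/-- The second restriction map is a localization. -/
theorem loc_b (i j : ι) : Loc (f i) (D.b i j) := by
  obtain ⟨P, hP, hP'⟩ := D.exists_flip hJ i j
  obtain ⟨Q, hQ, hQ'⟩ := D.exists_flip hJ j i
  refine (D.loc_a j i).of_equiv (AlgEquiv.ofAlgHom P Q ?_ ?_) fun x => AlgHom.congr_fun hP x
  · refine (D.loc_a i j).hom_ext ?_
    rw [AlgHom.comp_assoc, hQ, hP', AlgHom.id_comp]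
  · refine (D.loc_a j i).hom_ext ?_
    rw [AlgHom.comp_assoc, hP, hQ', AlgHom.id_comp]

include hJ in
/-- Comparison on a triple overlap. -/
theorem exists_three (i j i₀ : ι) :
    ∃ (E : Type u) (_ : CommRing E) (_ : Algebra A E) (l : Away' (D.W i) (f j) →ₐ[A] E)
      (P : Away' (D.W i) (f i₀) →ₐ[A] E) (P' : Away' (D.W j) (f i₀) →ₐ[A] E),
      Loc (f i₀) l ∧ P.comp (D.a i i₀) = l.comp (D.a i j) ∧ P'.comp (D.a j i₀) = l.comp (D.b i j) ∧
        P.comp (D.b i i₀) = P'.comp (D.b j i₀) := by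
  have hl := loc_toAway (Away' (D.W i) (f j)) (f i₀)
  obtain ⟨P, hP⟩ := (D.loc_a i i₀).exists_lift ((toAway _ (f i₀)).comp (D.a i j)) hl.unit
  obtain ⟨P', hP'⟩ := (D.loc_a j i₀).exists_lift ((toAway _ (f i₀)).comp (D.b i j)) hl.unit
  refine ⟨_, inferInstance, inferInstance, toAway _ (f i₀), P, P', hl, hP, hP', D.hom_ext hJ fun r => ?_⟩
  rw [red_comp_apply, red_comp_apply, D.redb, D.redb, ← red_comp_apply, ← red_comp_apply, hP, hP',
    red_comp_apply, red_comp_apply, D.redb]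

include hJ in
/-- Local sections agreeing with a common one on overlaps with `i₀` agree up to torsion. -/
theorem torsion {𝔞 : Ideal A} {i j i₀ : ι} (xi : Bar 𝔞 (D.W i)) (xj : Bar 𝔞 (D.W j)) (y : Bar 𝔞 (D.W i₀))
    (hi : red 𝔞 (D.a i i₀) xi = red 𝔞 (D.b i i₀) y) (hj : red 𝔞 (D.a j i₀) xj = red 𝔞 (D.b j i₀) y) :
    ∃ k : ℕ, f i₀ ^ k • (red 𝔞 (D.a i j) xi - red 𝔞 (D.b i j) xj) = 0 := by
  obtain ⟨E, _, _, l, P, P', hl, hP, hP', hPb⟩ := D.exists_three hJ i j i₀
  obtain ⟨k, hk⟩ := (hl.red 𝔞).ker (red 𝔞 (D.a i j) xi - red 𝔞 (D.b i j) xj) (by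
    rw [map_sub, ← red_comp_apply, ← red_comp_apply, ← hP, ← hP', red_comp_apply, red_comp_apply, hi, hj,
      ← red_comp_apply, ← red_comp_apply, hPb, sub_self])
  exact ⟨k, by rw [Algebra.smul_def, map_pow]; exact hk⟩

include hJ in
/-- The version for the lifts themselves. -/
theorem torsion' {i j i₀ : ι} (xi : D.W i) (xj : D.W j) (y : D.W i₀)
    (hi : D.a i i₀ xi = D.b i i₀ y) (hj : D.a j i₀ xj = D.b j i₀ y) :
    ∃ k : ℕ, f i₀ ^ k • (D.a i j xi - D.b i j xj) = 0 := by
  obtain ⟨E, _, _, l, P, P', hl, hP, hP', hPb⟩ := D.exists_three hJ i j i₀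
  obtain ⟨k, hk⟩ := hl.ker (D.a i j xi - D.b i j xj) (by
    rw [map_sub, ← AlgHom.comp_apply, ← AlgHom.comp_apply, ← hP, ← hP', AlgHom.comp_apply, AlgHom.comp_apply,
      hi, hj, ← AlgHom.comp_apply, ← AlgHom.comp_apply, hPb, sub_self])
  exact ⟨k, by rw [Algebra.smul_def, map_pow]; exact hk⟩

/-- The double localization of `C`. -/
abbrev C2 (C : Type u) [CommRing C] [Algebra A C] (f : ι → A) (i j : ι) : Type u :=
  Away' (Away' C (f i)) (f j)

/-- The first restriction map for `C`. -/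
abbrev aC (C : Type u) [CommRing C] [Algebra A C] (f : ι → A) (i j : ι) :
    Away' C (f i) →ₐ[A] C2 C f i j := toAway _ _

theorem exists_bC (i j : ι) : ∃ bC : Away' C (f j) →ₐ[A] C2 C f i j,
    bC.comp (toAway C (f j)) = (aC C f i j).comp (toAway C (f i)) :=
  (loc_toAway C (f j)).exists_lift _ (loc_toAway (Away' C (f i)) (f j)).unit

/-- The second restriction map for `C`. -/
noncomputable def bC (C : Type u) [CommRing C] [Algebra A C] (f : ι → A) (i j : ι) :
    Away' C (f j) →ₐ[A] C2 C f i j :=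
  ((loc_toAway C (f j)).exists_lift ((aC C f i j).comp (toAway C (f i)))
    (loc_toAway (Away' C (f i)) (f j)).unit).choose

theorem bC_comp (C : Type u) [CommRing C] [Algebra A C] (f : ι → A) (i j : ι) :
    (bC C f i j).comp (toAway C (f j)) = (aC C f i j).comp (toAway C (f i)) :=
  ((loc_toAway C (f j)).exists_lift ((aC C f i j).comp (toAway C (f i)))
    (loc_toAway (Away' C (f i)) (f j)).unit).choose_spec

theorem bC_apply (i j : ι) (c : C) :
    bC C f i j (toAway C (f j) c) = aC C f i j (toAway C (f i) c) :=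
  AlgHom.congr_fun (bC_comp C f i j) c

/-- The map to `C` on double overlaps. -/
noncomputable def φ2 (i j : ι) : Away' (D.W i) (f j) →ₐ[A] C2 C f i j :=
  ((D.loc_a i j).exists_lift ((aC C f i j).comp (D.φ i)) (loc_toAway (Away' C (f i)) (f j)).unit).choose

theorem φ2_a (i j : ι) : (D.φ2 i j).comp (D.a i j) = (aC C f i j).comp (D.φ i) :=
  ((D.loc_a i j).exists_lift ((aC C f i j).comp (D.φ i)) (loc_toAway (Away' C (f i)) (f j)).unit).choose_spec

include hJ in
theorem φ2_b (i j : ι) : (D.φ2 i j).comp (D.b i j) = (bC C f i j).comp (D.φ j) := by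
  refine D.hom_ext hJ fun r => ?_
  rw [red_comp_apply, D.redb, ← red_comp_apply, φ2_a, red_comp_apply, red_comp_apply, D.redφ, D.redφ,
    ← red_comp_apply, ← red_comp_apply, bC_comp]

end Setup

end GrothLib.EtLift16
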