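import Groth.Agent.Lib.Glue.IdealTorsion
import Mathlib.LinearAlgebra.TensorProduct.Pi
import Mathlib.RingTheory.TensorProduct.Basic

/-!
# Exactness of the glueing complex, in abstract form
-/

set_option autoImplicit false
universe u

open TensorProduct

namespace GrothLib.EtLift16

/-- The group structure on a tensor product with a ring, for the structures elaborated from the ring. -/
noncomputable scoped instance tensorRingGroup {R S : Type u} [CommRing R] [CommRing S] [Algebra R S] (M : Type u)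
    [AddCommGroup M] [Module R M] : AddCommGroup (S ⊗[R] M) := TensorProduct.addCommGroup

variable {R S : Type u} [CommRing R] [CommRing S] [Algebra R S] [Module.Flat R S] {ι : Type} [Fintype ι]
  (f : ι → R) {I : Ideal R} (hI : Ideal.span (Set.range f) = I)
  (hq : Function.Bijective (Ideal.quotientMap (I.map (algebraMap R S)) (algebraMap R S) Ideal.le_comap_map))

include hI in
omit [Fintype ι] in
theorem exists_pow_le [Finite ι] {J : Ideal R} (h : ∀ i, ∃ k : ℕ, f i ^ k ∈ J) : ∃ n : ℕ, I ^ n ≤ J :=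
  Ideal.exists_pow_le_of_le_radical_of_fg (by
    rw [← hI, Ideal.span_le]
    rintro _ ⟨i, rfl⟩
    exact h i) (hI ▸ Submodule.fg_span (Set.finite_range f))

include hI in
theorem torsion_bound {W : Type u} [AddCommGroup W] [Module R W] (w : W)
    (hw : ∀ i, ∃ k : ℕ, f i ^ k • w = 0) : ∃ n : ℕ, ∀ a ∈ I ^ n, a • w = 0 := by
  obtain ⟨n, hn⟩ := exists_pow_le f hI (J := LinearMap.ker (LinearMap.toSpanSingleton R W w)) hw
  exact ⟨n, fun a ha => hn ha⟩

include hI hq in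
theorem eq_zero_of_torsion {W : Type u} [AddCommGroup W] [Module R W] (w : W)
    (hw : ∀ i, ∃ k : ℕ, f i ^ k • w = 0) (h1 : (1 : S) ⊗ₜ[R] w = 0) : w = 0 := by
  obtain ⟨n, hn⟩ := torsion_bound f hI w hw
  exact Groth.Agent.Glue.eq_zero_of_pow_smul_eq_zero hq hn h1

omit [Module.Flat R S] [Fintype ι] in
/-- An element of `S ⊗ ∏ M i` with zero components is zero. -/
theorem eq_zero_of_components [Finite ι] {M : ι → Type u} [∀ i, AddCommGroup (M i)] [∀ i, Module R (M i)]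
    (z : S ⊗[R] (∀ i, M i)) (h : ∀ i, (LinearMap.proj i : (∀ i, M i) →ₗ[R] M i).lTensor S z = 0) : z = 0 := by
  classical
  cases nonempty_fintype ι
  refine (TensorProduct.piRight R R S M).injective (funext fun i => ?_)
  rw [map_zero, Pi.zero_apply, ← h i]
  clear h
  induction z using TensorProduct.induction_on with
  | zero => simp
  | tmul s m => simp
  | add a b ha hb => simp only [map_add, Pi.add_apply, ha, hb]

variable {T : Type u} [AddCommGroup T] [Module R T] {Ti : ι → Type u} [∀ i, AddCommGroup (Ti i)]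
  [∀ i, Module R (Ti i)] (l : ∀ i, T →ₗ[R] Ti i)

include hI hq in
/-- Compatible local elements and an element over `S` come from a global element. -/
theorem glue_elem (y : S ⊗[R] T) (m : ∀ i, Ti i) (hy : ∀ i, (l i).lTensor S y = (1 : S) ⊗ₜ[R] m i)
    (hker : ∀ t, (∀ i, l i t = 0) → ∀ i, ∃ k : ℕ, f i ^ k • t = 0)
    (hclear : ∀ i, ∃ (k : ℕ) (t : T), ∀ j, l j t = f i ^ k • m j) :
    ∃ t : T, (1 : S) ⊗ₜ[R] t = y ∧ ∀ i, l i t = m i := by
  let ψ : T →ₗ[R] ∀ i, Ti i := LinearMap.pi l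
  have hyS : ψ.lTensor S y = (1 : S) ⊗ₜ[R] m := sub_eq_zero.1 <| eq_zero_of_components _ fun i => by
    rw [map_sub, ← LinearMap.lTensor_comp_apply, LinearMap.proj_pi, LinearMap.lTensor_tmul, hy]
    exact sub_self _
  have hm : (LinearMap.range ψ).mkQ m = 0 := by
    refine eq_zero_of_torsion f hI hq _ (fun i => ?_) ?_
    · obtain ⟨k, t, ht⟩ := hclear i
      exact ⟨k, (Submodule.Quotient.mk_eq_zero _).2 ⟨t, funext ht⟩⟩
    · rw [← LinearMap.lTensor_tmul, ← hyS, ← LinearMap.lTensor_comp_apply, LinearMap.range_mkQ_comp,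
        LinearMap.lTensor_zero, LinearMap.zero_apply]
  obtain ⟨t₀, ht₀⟩ := (Submodule.Quotient.mk_eq_zero _).1 hm
  obtain ⟨z, hz⟩ := (Module.Flat.lTensor_exact S (N := ↥(LinearMap.ker ψ)) (f := (LinearMap.ker ψ).subtype)
    (g := ψ) (LinearMap.exact_subtype_ker_map ψ) (y - (1 : S) ⊗ₜ[R] t₀)).1 (by
      rw [map_sub, hyS, LinearMap.lTensor_tmul, ht₀, sub_self])
  obtain ⟨d, rfl⟩ := Groth.Agent.Glue.surjective_one_tmul_of_pow_smul hq (fun d : LinearMap.ker ψ => by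
    obtain ⟨n, hn⟩ := torsion_bound f hI (d : T) (hker d fun i => congrFun (LinearMap.mem_ker.1 d.2) i)
    exact ⟨n, fun a ha => Subtype.ext (hn a ha)⟩) z
  rw [TensorProduct.mk_apply, LinearMap.lTensor_tmul, Submodule.subtype_apply] at hz
  refine ⟨t₀ + d, by rw [tmul_add, hz]; abel, fun i => ?_⟩
  rw [map_add, show l i (d : T) = 0 from congrFun (LinearMap.mem_ker.1 d.2) i, add_zero]
  exact congrFun ht₀ i

variable {T2 : ι → ι → Type u} [∀ i j, AddCommGroup (T2 i j)] [∀ i j, Module R (T2 i j)]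
  (a : ∀ i j, Ti i →ₗ[R] T2 i j) (b : ∀ i j, Ti j →ₗ[R] T2 i j)

include hI hq in
/-- A cocycle which becomes a coboundary over `S` and locally is a coboundary. -/
theorem glue_cocycle (d : ∀ i, S ⊗[R] Ti i) (t : ∀ i j, T2 i j)
    (hd : ∀ i j, (a i j).lTensor S (d i) - (b i j).lTensor S (d j) = (1 : S) ⊗ₜ[R] t i j)
    (hloc : ∀ i₀, ∃ (k : ℕ) (m : ∀ i, Ti i), ∀ i j, a i j (m i) - b i j (m j) = f i₀ ^ k • t i j)
    (hclear : ∀ Y : ∀ i, S ⊗[R] Ti i, (∀ i j, (a i j).lTensor S (Y i) = (b i j).lTensor S (Y j)) →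
      ∀ i₀, ∃ (k : ℕ) (x : S ⊗[R] T), ∀ i, (l i).lTensor S x = f i₀ ^ k • Y i) :
    ∃ (x : S ⊗[R] T) (m : ∀ i, Ti i), (∀ i j, a i j (m i) - b i j (m j) = t i j) ∧
      ∀ i, (l i).lTensor S x = d i - (1 : S) ⊗ₜ[R] m i := by
  classical
  let e2 : ∀ i j, (R × ∀ i, Ti i) →ₗ[R] T2 i j := fun i j =>
    a i j ∘ₗ LinearMap.proj i ∘ₗ LinearMap.snd R R (∀ i, Ti i) -
      b i j ∘ₗ LinearMap.proj j ∘ₗ LinearMap.snd R R (∀ i, Ti i) -
      (LinearMap.toSpanSingleton R _ (t i j)) ∘ₗ LinearMap.fst R R (∀ i, Ti i)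
  let h : (R × ∀ i, Ti i) →ₗ[R] ∀ i j, T2 i j := LinearMap.pi fun i => LinearMap.pi fun j => e2 i j
  let N := LinearMap.ker h
  let r : N →ₗ[R] R := LinearMap.fst R R (∀ i, Ti i) ∘ₗ N.subtype
  let μ : ∀ i, N →ₗ[R] Ti i := fun i => LinearMap.proj i ∘ₗ LinearMap.snd R R (∀ i, Ti i) ∘ₗ N.subtype
  have hN : ∀ (v : N) i j, a i j (μ i v) - b i j (μ j v) = r v • t i j := fun v i j =>
    sub_eq_zero.1 (congrFun (congrFun (LinearMap.mem_ker.1 v.2) i) j)
  -- the solution over `S`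
  let w : S ⊗[R] (R × ∀ i, Ti i) := (1 : S) ⊗ₜ[R] ((1, 0) : R × ∀ i, Ti i) +
    ∑ q, (LinearMap.inr R R (∀ i, Ti i) ∘ₗ LinearMap.single R Ti q).lTensor S (d q)
  have hsum : ∀ i j, ∀ q, e2 i j ∘ₗ LinearMap.inr R R (∀ i, Ti i) ∘ₗ LinearMap.single R Ti q =
      a i j ∘ₗ LinearMap.proj i ∘ₗ LinearMap.single R Ti q -
        b i j ∘ₗ LinearMap.proj j ∘ₗ LinearMap.single R Ti q := fun i j q =>
    LinearMap.ext fun x => by simp [e2]
  have hcomp : ∀ i : ι, ∑ q, (LinearMap.proj i ∘ₗ LinearMap.single R Ti q).lTensor S (d q) = d i := fun i => by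
    rw [Finset.sum_eq_single i (fun q _ hqi => ?_) (fun hh => absurd (Finset.mem_univ i) hh),
      LinearMap.proj_comp_single_same, LinearMap.lTensor_id]
    · rfl
    · rw [LinearMap.proj_comp_single_ne R Ti i q (Ne.symm hqi), LinearMap.lTensor_zero]
      rfl
  have hcompA : ∀ (i : ι) (X : Type u) (_ : AddCommGroup X) (_ : Module R X) (g : Ti i →ₗ[R] X),
      ∑ q, (g ∘ₗ LinearMap.proj i ∘ₗ LinearMap.single R Ti q).lTensor S (d q) = g.lTensor S (d i) :=
    fun i X _ _ g => by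
      rw [Finset.sum_congr rfl fun q _ => LinearMap.lTensor_comp_apply (M := S) g
          (LinearMap.proj i ∘ₗ LinearMap.single R Ti q) (d q), ← map_sum, hcomp]
  have hw : h.lTensor S w = 0 := eq_zero_of_components _ fun i => eq_zero_of_components _ fun j => by
    rw [← LinearMap.lTensor_comp_apply, ← LinearMap.lTensor_comp_apply]
    show (e2 i j).lTensor S w = 0
    simp only [w, map_add, map_sum, LinearMap.lTensor_tmul, ← LinearMap.lTensor_comp_apply, hsum,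
      LinearMap.lTensor_sub, LinearMap.sub_apply, Finset.sum_sub_distrib]
    rw [hcompA, hcompA, hd, ← tmul_add,
      show e2 i j ((1, 0) : R × ∀ i, Ti i) + t i j = 0 by simp [e2], tmul_zero]
  obtain ⟨z, hz⟩ := (Module.Flat.lTensor_exact S (N := N) (f := N.subtype) (g := h)
    (LinearMap.exact_subtype_ker_map h) w).1 hw
  -- the obstruction
  let rS : S ⊗[R] N →ₗ[R] S := (TensorProduct.rid R S).toLinearMap ∘ₗ r.lTensor S
  let Θ : ∀ i, S ⊗[R] N →ₗ[R] S ⊗[R] Ti i := fun i =>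
    ((LinearMap.toSpanSingleton S _ (d i)).restrictScalars R) ∘ₗ rS - (μ i).lTensor S
  have hrS : ∀ (s : S) (v : N), rS (s ⊗ₜ v) = r v • s := fun s v => rfl
  have hΘ : ∀ i (s : S) (v : N), Θ i (s ⊗ₜ v) = (r v • s) • d i - s ⊗ₜ μ i v := fun i s v => rfl
  have hΘ1 : ∀ i (v : N), Θ i ((1 : S) ⊗ₜ v) = r v • d i - (1 : S) ⊗ₜ μ i v := fun i v => by
    rw [hΘ, smul_assoc, one_smul]
  let E : Submodule R N :=
    { carrier := {v | ∃ x : S ⊗[R] T, ∀ i, (l i).lTensor S x = Θ i ((1 : S) ⊗ₜ v)}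
      zero_mem' := ⟨0, fun i => by rw [map_zero, tmul_zero, map_zero]⟩
      add_mem' := fun {v v'} ⟨x, hx⟩ ⟨x', hx'⟩ => ⟨x + x', fun i => by rw [map_add, hx, hx', tmul_add, map_add]⟩
      smul_mem' := fun c v ⟨x, hx⟩ => ⟨c • x, fun i => by rw [map_smul, hx, tmul_smul, map_smul]⟩ }
  have hEq : ∀ c : N ⧸ E, ∀ i, ∃ k : ℕ, f i ^ k • c = 0 := fun c i₀ => by
    obtain ⟨v, rfl⟩ := Submodule.Quotient.mk_surjective _ c
    obtain ⟨k, x, hx⟩ := hclear (fun i => Θ i ((1 : S) ⊗ₜ v)) (fun i j => by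
      rw [hΘ1, hΘ1, map_sub, map_sub, map_smul, map_smul, LinearMap.lTensor_tmul, LinearMap.lTensor_tmul,
        ← sub_eq_zero, sub_sub_sub_comm, ← smul_sub, hd, ← tmul_sub, hN, tmul_smul, sub_self]) i₀
    refine ⟨k, (Submodule.Quotient.mk_eq_zero _).2 ⟨x, fun i => ?_⟩⟩
    rw [hx i, tmul_smul, map_smul]
  obtain ⟨c₀, hc₀⟩ := Groth.Agent.Glue.surjective_one_tmul_of_pow_smul hq
    (fun c : N ⧸ E => torsion_bound f hI c (hEq c)) (E.mkQ.lTensor S z)
  obtain ⟨v₀, rfl⟩ := Submodule.Quotient.mk_surjective _ c₀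
  obtain ⟨z', hz'⟩ := (lTensor_exact (M := ↥E) (N := ↥N) (P := ↥N ⧸ E) S (LinearMap.exact_subtype_mkQ E)
    E.mkQ_surjective (z - (1 : S) ⊗ₜ[R] v₀)).1 (by
      rw [map_sub, LinearMap.lTensor_tmul, ← hc₀]; exact sub_self _)
  have hsub : ∀ z' : S ⊗[R] E, ∃ x : S ⊗[R] T, ∀ i, (l i).lTensor S x = Θ i (E.subtype.lTensor S z') := by
    intro z'
    induction z' using TensorProduct.induction_on with
    | zero => exact ⟨0, fun i => by simp⟩
    | add p q hp hq =>
      obtain ⟨x, hx⟩ := hp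
      obtain ⟨x', hx'⟩ := hq
      exact ⟨x + x', fun i => by rw [map_add, hx, hx', map_add, map_add]⟩
    | tmul s v =>
      obtain ⟨x, hx⟩ := v.2
      refine ⟨s • x, fun i => ?_⟩
      have hs : ∀ y : S ⊗[R] T, (l i).lTensor S (s • y) = s • (l i).lTensor S y := fun y =>
        map_smul (AlgebraTensorModule.lTensor S S (l i)) s y
      rw [hs, hx i, hΘ1, LinearMap.lTensor_tmul, hΘ, Submodule.subtype_apply, smul_sub, smul_tmul',
        smul_eq_mul, mul_one, smul_assoc, smul_comm s]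
  have hzero : ∀ i, Θ i z = 0 := fun i => by
    have h1 : rS z = 1 := by
      show TensorProduct.rid R S ((LinearMap.fst R R (∀ i, Ti i) ∘ₗ N.subtype).lTensor S z) = 1
      rw [LinearMap.lTensor_comp_apply, hz]
      simp [w, ← LinearMap.lTensor_comp_apply, LinearMap.fst_comp_inr, ← LinearMap.comp_assoc]
    have h2 : (μ i).lTensor S z = d i := by
      show (LinearMap.proj i ∘ₗ LinearMap.snd R R (∀ i, Ti i) ∘ₗ N.subtype).lTensor S z = d i
      rw [LinearMap.lTensor_comp_apply, LinearMap.lTensor_comp_apply, hz]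
      simp only [w, map_add, map_sum, LinearMap.lTensor_tmul, ← LinearMap.lTensor_comp_apply,
        ← LinearMap.comp_assoc]
      rw [show (LinearMap.proj i ∘ₗ LinearMap.snd R R (∀ i, Ti i)) ∘ₗ LinearMap.inr R R (∀ i, Ti i) =
        LinearMap.proj i from LinearMap.ext fun _ => rfl, hcomp]
      simp
    show rS z • d i - (μ i).lTensor S z = 0
    rw [h1, h2, one_smul, sub_self]
  obtain ⟨x', hx'⟩ := hsub z'
  have hv₀ : v₀ ∈ E := ⟨-x', fun i => by
    rw [map_neg, hx', hz', map_sub, hzero, zero_sub, neg_neg]⟩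
  -- the ideal of solvable multiples is the unit ideal
  let 𝔯 : Ideal R := E.map r
  have h𝔯 : (1 : S) ⊗ₜ[R] (Submodule.mkQ 𝔯 (1 : R)) = 0 := by
    have h1 : (Submodule.mkQ 𝔯).lTensor S (r.lTensor S z) = 0 := by
      rw [show z = (1 : S) ⊗ₜ[R] v₀ + E.subtype.lTensor S z' by rw [hz']; abel, map_add, map_add,
        LinearMap.lTensor_tmul, LinearMap.lTensor_tmul, Submodule.mkQ_apply,
        (Submodule.Quotient.mk_eq_zero _).2 (Submodule.mem_map_of_mem hv₀), tmul_zero, zero_add,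
        ← LinearMap.lTensor_comp_apply, ← LinearMap.lTensor_comp_apply,
        show (Submodule.mkQ 𝔯 ∘ₗ r) ∘ₗ E.subtype = 0 from LinearMap.ext fun v =>
          (Submodule.Quotient.mk_eq_zero _).2 (Submodule.mem_map_of_mem v.2), LinearMap.lTensor_zero,
        LinearMap.zero_apply]
    rw [show r.lTensor S z = (1 : S) ⊗ₜ[R] (1 : R) from ?_] at h1
    · exact h1
    show (LinearMap.fst R R (∀ i, Ti i) ∘ₗ N.subtype).lTensor S z = _
    rw [LinearMap.lTensor_comp_apply, hz]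
    simp [w, ← LinearMap.lTensor_comp_apply, LinearMap.fst_comp_inr, ← LinearMap.comp_assoc]
  have hone : (1 : R) ∈ 𝔯 := (Submodule.Quotient.mk_eq_zero _).1 <| eq_zero_of_torsion f hI hq _ (fun i₀ => by
    obtain ⟨k, m, hm⟩ := hloc i₀
    obtain ⟨k', x, hx⟩ := hclear (fun i => f i₀ ^ k • d i - (1 : S) ⊗ₜ m i) (fun i j => by
      rw [map_sub, map_sub, map_smul, map_smul, LinearMap.lTensor_tmul, LinearMap.lTensor_tmul,
        ← sub_eq_zero, sub_sub_sub_comm, ← smul_sub, hd, ← tmul_sub, hm, tmul_smul, sub_self]) i₀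
    let v : N := ⟨(f i₀ ^ k, m), LinearMap.mem_ker.2 (funext fun i => funext fun j => sub_eq_zero.2 (hm i j))⟩
    have hv : f i₀ ^ k' • v ∈ E := ⟨x, fun i => by
      rw [hx i, tmul_smul, map_smul, hΘ1]
      rfl⟩
    refine ⟨k' + k, (Submodule.Quotient.mk_eq_zero _).2 ?_⟩
    show f i₀ ^ (k' + k) • (1 : R) ∈ 𝔯
    rw [smul_eq_mul, mul_one, pow_add, ← smul_eq_mul]
    exact ⟨_, hv, map_smul r (f i₀ ^ k') v⟩) h𝔯
  obtain ⟨v, ⟨x, hx⟩, hr⟩ := hone
  refine ⟨x, fun i => μ i v, fun i j => by rw [hN, hr, one_smul], fun i => ?_⟩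
  rw [hx, hΘ1, hr, one_smul]

end GrothLib.EtLift16
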