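import Groth.Agent.Lib.EtLift16.Cover
import Mathlib.RingTheory.Smooth.Flat

/-!
# The glued lift and its reduction
-/

set_option autoImplicit false
universe u

open TensorProduct

namespace GrothLib.EtLift16.Setup

variable {A : Type u} [CommRing A] {J : Ideal A} {B₀ C : Type u} [CommRing B₀] [Algebra A B₀] [CommRing C]
  [Algebra A C] [Algebra B₀ (Bar J C)] [IsScalarTower A B₀ (Bar J C)] {ι : Type} [Fintype ι] {f : ι → A}
  (D : Setup J B₀ C f) (hJ : IsNilpotent J) [∀ i, Algebra.Etale A (Away' C (f i))]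
  [Module.Flat B₀ (Bar J C)] {I : Ideal A} (hI : Ideal.span (Set.range f) = I)
  (hq : Function.Bijective (Ideal.quotientMap ((I.map (algebraMap A B₀)).map (algebraMap B₀ (Bar J C)))
    (algebraMap B₀ (Bar J C)) Ideal.le_comap_map))

include hI in
omit [Fintype ι] [Algebra B₀ (Bar J C)] [IsScalarTower A B₀ (Bar J C)] [∀ i, Algebra.Etale A (Away' C (f i))]
  [Module.Flat B₀ (Bar J C)] in
theorem span_range : Ideal.span (Set.range fun i => algebraMap A B₀ (f i)) = I.map (algebraMap A B₀) := by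
  rw [← hI, Ideal.map_span, ← Set.range_comp]
  rfl

/-- The glued algebra. -/
def glued : Subalgebra A (C × ∀ i, D.W i) where
  carrier := {z | (∀ i, toAway C (f i) z.1 = D.φ i (z.2 i)) ∧ ∀ i j, D.a i j (z.2 i) = D.b i j (z.2 j)}
  mul_mem' {z w} hz hw := ⟨fun i => by simp only [Prod.fst_mul, Prod.snd_mul, Pi.mul_apply, map_mul, hz.1, hw.1],
    fun i j => by simp only [Prod.snd_mul, Pi.mul_apply, map_mul, hz.2, hw.2]⟩
  add_mem' {z w} hz hw := ⟨fun i => by simp only [Prod.fst_add, Prod.snd_add, Pi.add_apply, map_add, hz.1, hw.1],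
    fun i j => by simp only [Prod.snd_add, Pi.add_apply, map_add, hz.2, hw.2]⟩
  algebraMap_mem' c := ⟨fun i => by
    rw [show (algebraMap A (C × ∀ i, D.W i) c).1 = algebraMap A C c from rfl,
      show (algebraMap A (C × ∀ i, D.W i) c).2 i = algebraMap A (D.W i) c from rfl, AlgHom.commutes,
      AlgHom.commutes], fun i j => by
    rw [show (algebraMap A (C × ∀ i, D.W i) c).2 i = algebraMap A (D.W i) c from rfl,
      show (algebraMap A (C × ∀ i, D.W i) c).2 j = algebraMap A (D.W j) c from rfl, AlgHom.commutes,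
      AlgHom.commutes]⟩

theorem locV (i : ι) : Loc (f i) (IsScalarTower.toAlgHom A B₀ (Bar J (D.W i))) :=
  (D.locσ i).of_equiv AlgEquiv.refl fun _ => rfl

theorem locV2 (i j : ι) : Loc (f i * f j) (IsScalarTower.toAlgHom A B₀ (Bar J (Away' (D.W i) (f j)))) :=
  ((D.locσ i).comp ((D.loc_a i j).red J)).of_equiv AlgEquiv.refl fun _ => rfl

variable (J C f) in
/-- The map to the localization of `C`. -/
abbrev αC (i : ι) : Bar J C →ₐ[A] Bar J (Away' C (f i)) := red J (toAway C (f i))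

variable (J C f) in
/-- The map to the double localization of `C`. -/
abbrev αC2 (i j : ι) : Bar J C →ₐ[A] Bar J (C2 C f i j) := red J ((aC C f i j).comp (toAway C (f i)))

omit [Fintype ι] in
theorem compat (i : ι) (r : B₀) :
    αC J C f i (algebraMap B₀ (Bar J C) r) = red J (D.φ i) (algebraMap B₀ (Bar J (D.W i)) r) :=
  (D.redφ i r).symm

omit [Fintype ι] in
theorem compat2 (i j : ι) (r : B₀) : αC2 J C f i j (algebraMap B₀ (Bar J C) r) =
    red J (D.φ2 i j) (algebraMap B₀ (Bar J (Away' (D.W i) (f j))) r) := by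
  show _ = red J (D.φ2 i j) (red J (D.a i j) (D.σ i r))
  rw [← red_comp_apply, φ2_a, red_comp_apply, red_comp_apply, D.redφ]

omit [Fintype ι] [∀ i, Algebra.Etale A (Away' C (f i))] [Module.Flat B₀ (Bar J C)] in
theorem smul_fB {M : Type u} [AddCommMonoid M] [Module A M] [Module B₀ M] [IsScalarTower A B₀ M] (i : ι) (k : ℕ)
    (x : M) : algebraMap A B₀ (f i) ^ k • x = f i ^ k • x := by
  rw [← map_pow, algebraMap_smul]

theorem smul_sub_tensor {R S M : Type u} [CommRing R] [CommRing S] [Algebra R S] [AddCommGroup M] [Module R M]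
    (r : R) (x y : S ⊗[R] M) : r • x - r • y = r • (x - y) := (smul_sub r x y).symm

/-- The restriction of the identity of `B₀`. -/
noncomputable abbrev lV (i : ι) : B₀ →ₗ[B₀] Bar J (D.W i) := Algebra.linearMap B₀ _

/-- The first restriction, linear over `B₀`. -/
noncomputable abbrev aV (i j : ι) : Bar J (D.W i) →ₗ[B₀] Bar J (Away' (D.W i) (f j)) :=
  asLinear (red J (D.a i j)) fun _ => rfl

/-- The second restriction, linear over `B₀`. -/
noncomputable abbrev bV (i j : ι) : Bar J (D.W j) →ₗ[B₀] Bar J (Away' (D.W i) (f j)) :=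
  asLinear (red J (D.b i j)) fun r => D.redb i j r

include hJ hI hq in
theorem reduction_unique {r r' : B₀} (hg : algebraMap B₀ (Bar J C) r = algebraMap B₀ (Bar J C) r')
    (hσ : ∀ i, D.σ i r = D.σ i r') : r = r' := by
  refine sub_eq_zero.1 (eq_zero_of_torsion (fun i => algebraMap A B₀ (f i)) (span_range hI) hq (r - r') (fun i => ?_) ?_)
  · obtain ⟨k, hk⟩ := (D.locσ i).ker (r - r') (by rw [map_sub, hσ, sub_self])
    exact ⟨k, hk⟩
  · apply (TensorProduct.rid B₀ (Bar J C)).injective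
    rw [TensorProduct.rid_tmul, map_zero, Algebra.smul_def, mul_one, map_sub, hg, sub_self]

include hJ hI hq in
theorem exists_reduction (z : D.glued) : ∃ r : B₀, algebraMap B₀ (Bar J C) r = bar J C z.1.1 ∧
    ∀ i, D.σ i r = bar J (D.W i) (z.1.2 i) := by
  obtain ⟨r, hr, hr'⟩ := glue_elem (S := Bar J C) (fun i => algebraMap A B₀ (f i)) (span_range hI) hq
    (l := fun i => D.lV i) (bar J C z.1.1 ⊗ₜ (1 : B₀)) (fun i => bar J (D.W i) (z.1.2 i))
    (fun i => by
      refine mu_injective _ _ (D.compat i) (D.locV i) ((loc_toAway C (f i)).red J) ?_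
      rw [LinearMap.lTensor_tmul, mu_tmul, mu_tmul, Algebra.linearMap_apply, map_one, map_one, map_one,
        mul_one, one_mul, red_mk, red_mk, z.2.1 i])
    (fun t ht i => by
      obtain ⟨k, hk⟩ := (D.locσ i).ker t (ht i)
      exact ⟨k, hk⟩)
    (fun i => by
      obtain ⟨k, t, ht⟩ := (D.locσ i).surj (bar J (D.W i) (z.1.2 i))
      have h : ∀ j, ∃ L, algebraMap A (Bar J (D.W j)) (f i) ^ L *
          (D.σ j t - algebraMap A (Bar J (D.W j)) (f i) ^ k * bar J (D.W j) (z.1.2 j)) = 0 := fun j => by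
        refine ((D.loc_b hJ i j).red J).ker _ ?_
        rw [map_sub, D.redb, pow_apply, ← ht, pow_apply, red_mk, red_mk, z.2.2 i j, sub_self]
      choose L hL using h
      refine ⟨k + ∑ j, L j, algebraMap A B₀ (f i) ^ (∑ j, L j) * t, fun j => ?_⟩
      rw [smul_fB, Algebra.smul_def, map_pow]
      show D.σ j (algebraMap A B₀ (f i) ^ (∑ j, L j) * t) = _
      obtain ⟨e, he⟩ := exists_add_of_le (Finset.single_le_sum (f := L) (fun _ _ => Nat.zero_le _)
        (Finset.mem_univ j))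
      rw [pow_apply, ← sub_eq_zero, pow_add, mul_comm (_ ^ k), mul_assoc, ← mul_sub, he,
        add_comm, pow_add, mul_assoc, hL, mul_zero])
  refine ⟨r, ?_, hr'⟩
  have h1 := congrArg (TensorProduct.rid B₀ (Bar J C)) hr
  rw [TensorProduct.rid_tmul, TensorProduct.rid_tmul, one_smul, Algebra.smul_def, mul_one] at h1
  exact h1

/-- The reduction of the glued algebra. -/
noncomputable def reduction : D.glued →ₐ[A] B₀ where
  toFun z := (D.exists_reduction hJ hI hq z).choose
  map_one' := D.reduction_unique hJ hI hq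
    (by rw [(D.exists_reduction hJ hI hq 1).choose_spec.1, map_one]; exact map_one _)
    (fun i => by rw [(D.exists_reduction hJ hI hq 1).choose_spec.2, map_one]; exact map_one _)
  map_mul' z w := D.reduction_unique hJ hI hq
    (by rw [(D.exists_reduction hJ hI hq (z * w)).choose_spec.1, map_mul,
          (D.exists_reduction hJ hI hq z).choose_spec.1, (D.exists_reduction hJ hI hq w).choose_spec.1,
          ← map_mul]; rfl)
    (fun i => by rw [(D.exists_reduction hJ hI hq (z * w)).choose_spec.2, map_mul,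
          (D.exists_reduction hJ hI hq z).choose_spec.2, (D.exists_reduction hJ hI hq w).choose_spec.2,
          ← map_mul]; rfl)
  map_zero' := D.reduction_unique hJ hI hq
    (by rw [(D.exists_reduction hJ hI hq 0).choose_spec.1, map_zero]; exact map_zero _)
    (fun i => by rw [(D.exists_reduction hJ hI hq 0).choose_spec.2, map_zero]; exact map_zero _)
  map_add' z w := D.reduction_unique hJ hI hq
    (by rw [(D.exists_reduction hJ hI hq (z + w)).choose_spec.1, map_add,
          (D.exists_reduction hJ hI hq z).choose_spec.1, (D.exists_reduction hJ hI hq w).choose_spec.1,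
          ← map_add]; rfl)
    (fun i => by rw [(D.exists_reduction hJ hI hq (z + w)).choose_spec.2, map_add,
          (D.exists_reduction hJ hI hq z).choose_spec.2, (D.exists_reduction hJ hI hq w).choose_spec.2,
          ← map_add]; rfl)
  commutes' c := D.reduction_unique hJ hI hq
    (by rw [(D.exists_reduction hJ hI hq _).choose_spec.1, ← IsScalarTower.algebraMap_apply A B₀ (Bar J C)]
        exact (bar J C).commutes c)
    (fun i => by rw [(D.exists_reduction hJ hI hq _).choose_spec.2, AlgHom.commutes]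
                 exact (bar J (D.W i)).commutes c)

theorem reduction_fst (z : D.glued) :
    algebraMap B₀ (Bar J C) (D.reduction hJ hI hq z) = bar J C z.1.1 :=
  (D.exists_reduction hJ hI hq z).choose_spec.1

theorem reduction_snd (z : D.glued) (i : ι) :
    D.σ i (D.reduction hJ hI hq z) = bar J (D.W i) (z.1.2 i) :=
  (D.exists_reduction hJ hI hq z).choose_spec.2 i

theorem tau_mem {W : Type u} [CommRing W] [Algebra A W] (k : ℕ) (z : Bar J W ⊗[A] ↥(J ^ k)) :
    ∃ x ∈ (J ^ k).map (algebraMap A W), bar (J ^ (k + 1)) W x = tau W J k z := by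
  induction z using TensorProduct.induction_on with
  | zero => exact ⟨0, zero_mem _, by simp⟩
  | add p q hp hq =>
    obtain ⟨x, hx, hx'⟩ := hp
    obtain ⟨y, hy, hy'⟩ := hq
    exact ⟨x + y, add_mem hx hy, by rw [map_add, hx', hy', map_add]⟩
  | tmul w j =>
    obtain ⟨w, rfl⟩ := bar_surjective J W w
    exact ⟨(j : A) • w, by rw [Algebra.smul_def]; exact Ideal.mul_mem_right _ _ (Ideal.mem_map_of_mem _ j.2),
      (tau_tmul J k w j).symm⟩

theorem bar_eq_zero_of_mem {W : Type u} [CommRing W] [Algebra A W] {k : ℕ} (hk : k ≠ 0) {x : W}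
    (hx : x ∈ (J ^ k).map (algebraMap A W)) : bar J W x = 0 :=
  Ideal.Quotient.eq_zero_iff_mem.2 (Ideal.map_mono (Ideal.pow_le_self hk) hx)

section step

variable (k : ℕ)

local notation3 "T₀" => B₀ ⊗[A] ↥(J ^ k)

/-- The global comparison map. -/
noncomputable abbrev κ₀ : Bar J C ⊗[B₀] T₀ →+ Bar (J ^ (k + 1)) C :=
  kappa J k (AlgHom.id A (Bar J C)) (IsScalarTower.toAlgHom A B₀ (Bar J C)) fun _ => rfl

/-- The local comparison map. -/
noncomputable abbrev κ (i : ι) :
    Bar J C ⊗[B₀] (Bar J (D.W i) ⊗[A] ↥(J ^ k)) →+ Bar (J ^ (k + 1)) (Away' C (f i)) :=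
  kappa J k (αC J C f i) (red J (D.φ i)) (D.compat i)

/-- The comparison map on double overlaps. -/
noncomputable abbrev κ2 (i j : ι) :
    Bar J C ⊗[B₀] (Bar J (Away' (D.W i) (f j)) ⊗[A] ↥(J ^ k)) →+ Bar (J ^ (k + 1)) (C2 C f i j) :=
  kappa J k (αC2 J C f i j) (red J (D.φ2 i j)) (D.compat2 i j)

/-- The maps of graded pieces. -/
noncomputable abbrev lT (i : ι) : T₀ →ₗ[B₀] Bar J (D.W i) ⊗[A] ↥(J ^ k) :=
  AlgebraTensorModule.rTensor A _ (D.lV i)

/-- The first restriction on graded pieces. -/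
noncomputable abbrev aT (i j : ι) :
    Bar J (D.W i) ⊗[A] ↥(J ^ k) →ₗ[B₀] Bar J (Away' (D.W i) (f j)) ⊗[A] ↥(J ^ k) :=
  AlgebraTensorModule.rTensor A _ (D.aV i j)

/-- The second restriction on graded pieces. -/
noncomputable abbrev bT (i j : ι) :
    Bar J (D.W j) ⊗[A] ↥(J ^ k) →ₗ[B₀] Bar J (Away' (D.W i) (f j)) ⊗[A] ↥(J ^ k) :=
  AlgebraTensorModule.rTensor A _ (D.bV i j)

theorem tau_aT (i j : ι) (z : Bar J (D.W i) ⊗[A] ↥(J ^ k)) :
    tau _ J k (D.aT k i j z) = red (J ^ (k + 1)) (D.a i j) (tau _ J k z) := tau_natural J k (D.a i j) z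

theorem tau_bT (i j : ι) (z : Bar J (D.W j) ⊗[A] ↥(J ^ k)) :
    tau _ J k (D.bT k i j z) = red (J ^ (k + 1)) (D.b i j) (tau _ J k z) := tau_natural J k (D.b i j) z

theorem kappa2_one (i j : ι) (t : Bar J (Away' (D.W i) (f j)) ⊗[A] ↥(J ^ k)) :
    D.κ2 k i j ((1 : Bar J C) ⊗ₜ t) = red (J ^ (k + 1)) (D.φ2 i j) (tau _ J k t) := by
  rw [κ2, kappa_one_tmul, tau_natural]

theorem kappa_one (i : ι) (t : Bar J (D.W i) ⊗[A] ↥(J ^ k)) :
    D.κ k i ((1 : Bar J C) ⊗ₜ t) = red (J ^ (k + 1)) (D.φ i) (tau _ J k t) := by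
  rw [κ, kappa_one_tmul, tau_natural]

theorem kappa_a (i j : ι) (z : Bar J C ⊗[B₀] (Bar J (D.W i) ⊗[A] ↥(J ^ k))) :
    D.κ2 k i j ((D.aT k i j).lTensor _ z) = red (J ^ (k + 1)) (aC C f i j) (D.κ k i z) :=
  kappa_natural J k _ _ _ _ _ _ (D.aV i j) (aC C f i j) (fun s => (red_comp_apply J _ _ s).symm)
    (fun v => by
      show _ = red J (D.φ2 i j) (red J (D.a i j) v)
      rw [← red_comp_apply, ← red_comp_apply, φ2_a]) z

include hJ in
theorem kappa_b (i j : ι) (z : Bar J C ⊗[B₀] (Bar J (D.W j) ⊗[A] ↥(J ^ k))) :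
    D.κ2 k i j ((D.bT k i j).lTensor _ z) = red (J ^ (k + 1)) (bC C f i j) (D.κ k j z) :=
  kappa_natural J k _ _ _ _ _ _ (D.bV i j) (bC C f i j) (fun s => by
      rw [← red_comp_apply, bC_comp])
    (fun v => by
      show _ = red J (D.φ2 i j) (red J (D.b i j) v)
      rw [← red_comp_apply, ← red_comp_apply, D.φ2_b hJ]) z

theorem kappa_l (i : ι) (z : Bar J C ⊗[B₀] T₀) :
    D.κ k i ((D.lT k i).lTensor _ z) = red (J ^ (k + 1)) (toAway C (f i)) (κ₀ k z) :=
  kappa_natural J k _ _ _ _ _ _ (D.lV i) (toAway C (f i)) (fun s => rfl)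
    (fun v => (D.redφ i v).symm) z

include hJ in
theorem kappa2_injective (i j : ι) : Function.Injective (D.κ2 k i j) :=
  kappa_injective J k _ _ _ (D.locV2 i j)
    (((loc_toAway C (f i)).comp (loc_toAway (Away' C (f i)) (f j))).red J)

theorem kappa_inj (i : ι) : Function.Injective (D.κ k i) :=
  kappa_injective J k _ _ _ (D.locV i) ((loc_toAway C (f i)).red J)

theorem l_overlap (i j : ι) : D.aT k i j ∘ₗ D.lT k i = D.bT k i j ∘ₗ D.lT k j := by
  refine AlgebraTensorModule.ext fun r x => ?_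
  show (red J (D.a i j) (D.σ i r)) ⊗ₜ[A] x = (red J (D.b i j) (D.σ j r)) ⊗ₜ[A] x
  rw [D.redb]

include hJ in
theorem hloc (x : ∀ i, D.W i) (t : ∀ i j, Bar J (Away' (D.W i) (f j)) ⊗[A] ↥(J ^ k))
    (ht : ∀ i j, tau _ J k (t i j) = bar (J ^ (k + 1)) _ (D.b i j (x j) - D.a i j (x i))) (i₀ : ι) :
    ∃ (K : ℕ) (m : ∀ i, Bar J (D.W i) ⊗[A] ↥(J ^ k)),
      ∀ i j, D.aT k i j (m i) - D.bT k i j (m j) = algebraMap A B₀ (f i₀) ^ K • t i j := by
  have h : ∀ i, ∃ (K : ℕ) (m : Bar J (D.W i) ⊗[A] ↥(J ^ k)), D.aT k i i₀ m = f i₀ ^ K • t i i₀ := fun i =>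
    ((D.loc_a i i₀).red J).rTensor_surj _ _
  choose K m hm using h
  let K₁ := ∑ i, K i
  have hm1 : ∀ i, ∃ m : Bar J (D.W i) ⊗[A] ↥(J ^ k), D.aT k i i₀ m = f i₀ ^ K₁ • t i i₀ := fun i => by
    obtain ⟨e, he⟩ := exists_add_of_le (Finset.single_le_sum (f := K) (fun _ _ => Nat.zero_le _)
      (Finset.mem_univ i))
    refine ⟨f i₀ ^ e • m i, ?_⟩
    rw [LinearMap.map_smul_of_tower, hm, smul_smul, ← pow_add, add_comm]
    exact congrArg (fun n => f i₀ ^ n • t i i₀) he.symm
  choose M hM using hm1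
  let Y : ∀ i, Bar (J ^ (k + 1)) (D.W i) := fun i => tau _ J k (M i) + f i₀ ^ K₁ • bar _ _ (x i)
  have hY : ∀ i, red _ (D.a i i₀) (Y i) = red _ (D.b i i₀) (f i₀ ^ K₁ • bar (J ^ (k + 1)) _ (x i₀)) := fun i => by
    rw [map_add, ← tau_aT, hM, map_smul, map_smul, map_smul, ht, red_mk, red_mk, map_sub, smul_sub,
      sub_add_cancel]
  have h2 : ∀ p : ι × ι, ∃ L, f i₀ ^ L • (red _ (D.a p.1 p.2) (Y p.1) - red _ (D.b p.1 p.2) (Y p.2)) = 0 :=
    fun p => D.torsion hJ _ _ _ (hY p.1) (hY p.2)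
  choose L hL using h2
  refine ⟨(∑ p, L p) + K₁, fun i => f i₀ ^ (∑ p, L p) • M i, fun i j => ?_⟩
  apply tau_injective (W := Away' (D.W i) (f j)) J k
  obtain ⟨e, he⟩ := exists_add_of_le (Finset.single_le_sum (f := L) (fun _ _ => Nat.zero_le _)
    (Finset.mem_univ (i, j)))
  have ea : D.aT k i j (f i₀ ^ (∑ p, L p) • M i) = f i₀ ^ (∑ p, L p) • D.aT k i j (M i) :=
    LinearMap.map_smul_of_tower _ _ _
  have eb : D.bT k i j (f i₀ ^ (∑ p, L p) • M j) = f i₀ ^ (∑ p, L p) • D.bT k i j (M j) :=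
    LinearMap.map_smul_of_tower _ _ _
  rw [smul_fB, map_sub, ea, eb, map_smul, map_smul, map_smul, tau_aT, tau_bT, ht, ← smul_sub,
    pow_add (f i₀) (∑ p, L p) K₁, mul_smul, ← sub_eq_zero, ← smul_sub]
  have h3 := congrArg (f i₀ ^ e • ·) (hL (i, j))
  simp only [smul_zero, smul_smul, ← pow_add] at h3
  rw [he, add_comm (L (i, j)) e, ← h3]
  congr 1
  simp only [Y, map_add, map_smul, red_mk, map_sub, smul_sub]
  abel

include hJ in
theorem hclear (Y : ∀ i, Bar J C ⊗[B₀] (Bar J (D.W i) ⊗[A] ↥(J ^ k)))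
    (hY : ∀ i j, (D.aT k i j).lTensor _ (Y i) = (D.bT k i j).lTensor _ (Y j)) (i₀ : ι) :
    ∃ (K : ℕ) (x : Bar J C ⊗[B₀] T₀), ∀ i, (D.lT k i).lTensor _ x = algebraMap A B₀ (f i₀) ^ K • Y i := by
  have h0 : ∀ y : Bar J C ⊗[B₀] (Bar J (D.W i₀) ⊗[A] ↥(J ^ k)),
      ∃ (K : ℕ) (x : Bar J C ⊗[B₀] T₀), (D.lT k i₀).lTensor _ x = algebraMap A B₀ (f i₀) ^ K • y := fun y => by
    induction y using TensorProduct.induction_on with
    | zero => exact ⟨0, 0, by simp⟩
    | add p q hp hq =>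
      obtain ⟨K, x, hx⟩ := hp
      obtain ⟨K', x', hx'⟩ := hq
      refine ⟨K + K', algebraMap A B₀ (f i₀) ^ K' • x + algebraMap A B₀ (f i₀) ^ K • x', ?_⟩
      rw [map_add, map_smul, map_smul, hx, hx', smul_smul, smul_smul, ← pow_add, ← pow_add, add_comm K' K,
        smul_add]
    | tmul s w =>
      obtain ⟨K, t, ht⟩ := (D.locσ i₀).rTensor_surj _ w
      refine ⟨K, s ⊗ₜ t, ?_⟩
      rw [LinearMap.lTensor_tmul, ← tmul_smul, smul_fB, ← ht]
      rfl
  obtain ⟨K, x, hx⟩ := h0 (Y i₀)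
  have h1 : ∀ i, ∃ L : ℕ, algebraMap A B₀ (f i₀) ^ L •
      ((D.lT k i).lTensor _ x - algebraMap A B₀ (f i₀) ^ K • Y i) = 0 := fun i => by
    have hz : red _ (aC C f i i₀) (D.κ k i
        ((D.lT k i).lTensor _ x - algebraMap A B₀ (f i₀) ^ K • Y i)) = 0 := by
      rw [← kappa_a, map_sub, map_smul, hY, ← map_smul, ← hx, ← LinearMap.lTensor_comp_apply,
        ← LinearMap.lTensor_comp_apply, l_overlap, sub_self, map_zero]
    obtain ⟨L, hL⟩ := ((loc_toAway (Away' C (f i)) (f i₀)).red (J ^ (k + 1))).ker _ hz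
    refine ⟨L, D.kappa_inj k i ?_⟩
    rw [kappa_smul_pow, map_zero, Algebra.smul_def, map_pow, hL]
  choose L hL using h1
  refine ⟨(∑ i, L i) + K, algebraMap A B₀ (f i₀) ^ (∑ i, L i) • x, fun i => ?_⟩
  obtain ⟨e, he⟩ := exists_add_of_le (Finset.single_le_sum (f := L) (fun _ _ => Nat.zero_le _)
    (Finset.mem_univ i))
  rw [map_smul, pow_add, mul_smul, ← sub_eq_zero, smul_sub_tensor, he, add_comm, pow_add, mul_smul, hL, smul_zero]

include hJ hI hq in
theorem improve (hk : k ≠ 0) (c : C) (x : ∀ i, D.W i)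
    (hc : ∀ i, toAway C (f i) c - D.φ i (x i) ∈ (J ^ k).map (algebraMap A (Away' C (f i))))
    (hx : ∀ i j, D.a i j (x i) - D.b i j (x j) ∈ (J ^ k).map (algebraMap A (Away' (D.W i) (f j)))) :
    ∃ (c' : C) (x' : ∀ i, D.W i), bar J C c' = bar J C c ∧ (∀ i, bar J (D.W i) (x' i) = bar J (D.W i) (x i)) ∧
      (∀ i, toAway C (f i) c' - D.φ i (x' i) ∈ (J ^ (k + 1)).map (algebraMap A (Away' C (f i)))) ∧
      ∀ i j, D.a i j (x' i) - D.b i j (x' j) ∈ (J ^ (k + 1)).map (algebraMap A (Away' (D.W i) (f j))) := by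
  have hd : ∀ i, ∃ d, D.κ k i d = bar (J ^ (k + 1)) _ (toAway C (f i) c - D.φ i (x i)) := fun i =>
    exists_kappa_eq J k _ _ _ (mu_surjective _ _ _ (D.locV i) ((loc_toAway C (f i)).red J)) (hc i)
  choose d hd using hd
  have hneg : ∀ i j, D.b i j (x j) - D.a i j (x i) ∈ (J ^ k).map (algebraMap A (Away' (D.W i) (f j))) :=
    fun i j => by simpa using neg_mem (hx i j)
  choose t ht using fun i j => exists_tau_eq J k (hneg i j)
  have hdt : ∀ i j, (D.aT k i j).lTensor _ (d i) - (D.bT k i j).lTensor _ (d j) =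
      (1 : Bar J C) ⊗ₜ t i j := fun i j => D.kappa2_injective hJ k i j (by
    rw [map_sub, kappa_a, D.kappa_b hJ, hd, hd, kappa2_one, ht, red_mk, red_mk, red_mk, ← map_sub]
    congr 1
    have e1 : D.φ2 i j (D.b i j (x j)) = bC C f i j (D.φ j (x j)) := AlgHom.congr_fun (D.φ2_b hJ i j) _
    have e2 : D.φ2 i j (D.a i j (x i)) = aC C f i j (D.φ i (x i)) := AlgHom.congr_fun (D.φ2_a i j) _
    have e3 : bC C f i j (toAway C (f j) c) = aC C f i j (toAway C (f i) c) := bC_apply i j c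
    rw [map_sub, map_sub, map_sub, e1, e2, e3]
    abel)
  obtain ⟨y, m, hm, hy⟩ := glue_cocycle (S := Bar J C) (fun i => algebraMap A B₀ (f i)) (span_range hI) hq
    (D.lT k) (D.aT k) (D.bT k) d t hdt (D.hloc hJ k x t ht) (D.hclear hJ k)
  obtain ⟨e₀, he₀⟩ := bar_surjective (J ^ (k + 1)) C (κ₀ k y)
  obtain ⟨e, he, he'⟩ := tau_mem (W := C) k
    ((mu (AlgHom.id A (Bar J C)) (IsScalarTower.toAlgHom A B₀ (Bar J C)) fun _ => rfl).rTensor _
      ((AlgebraTensorModule.assoc A B₀ B₀ (Bar J C) B₀ ↥(J ^ k)).symm y))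
  choose w hw hw' using fun i => tau_mem (W := D.W i) k (m i)
  refine ⟨c - e, fun i => x i + w i, by rw [map_sub, bar_eq_zero_of_mem hk he, sub_zero],
    fun i => by rw [map_add, bar_eq_zero_of_mem hk (hw i), add_zero], fun i => ?_, fun i j => ?_⟩
  · refine Ideal.Quotient.eq_zero_iff_mem.1 ?_
    show bar (J ^ (k + 1)) _ _ = 0
    have h1 : red (J ^ (k + 1)) (toAway C (f i)) (κ₀ k y) =
        D.κ k i (d i) - red _ (D.φ i) (tau _ J k (m i)) := by
      rw [← kappa_l, hy, map_sub, kappa_one]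
    rw [show κ₀ k y = bar (J ^ (k + 1)) C e from he'.symm, red_mk, hd, ← hw', red_mk, ← map_sub] at h1
    simp only [map_sub, map_add] at h1 ⊢
    linear_combination -h1
  · refine Ideal.Quotient.eq_zero_iff_mem.1 ?_
    show bar (J ^ (k + 1)) _ _ = 0
    have h1 := congrArg (tau _ J k) (hm i j)
    rw [map_sub, tau_aT, tau_bT, ← hw', ← hw', red_mk, red_mk, ht] at h1
    simp only [map_sub, map_add] at h1 ⊢
    linear_combination h1

end step

include hJ hI hq in
theorem reduction_surjective : Function.Surjective (D.reduction hJ hI hq) := fun r => by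
  have step : ∀ k, ∃ (c : C) (x : ∀ i, D.W i), bar J C c = algebraMap B₀ (Bar J C) r ∧
      (∀ i, bar J (D.W i) (x i) = D.σ i r) ∧
      (∀ i, toAway C (f i) c - D.φ i (x i) ∈ (J ^ (k + 1)).map (algebraMap A (Away' C (f i)))) ∧
      ∀ i j, D.a i j (x i) - D.b i j (x j) ∈ (J ^ (k + 1)).map (algebraMap A (Away' (D.W i) (f j))) := fun k => by
    induction k with
    | zero =>
      obtain ⟨c, hc⟩ := bar_surjective J C (algebraMap B₀ (Bar J C) r)
      choose x hx using fun i => bar_surjective J (D.W i) (D.σ i r)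
      rw [zero_add, pow_one]
      refine ⟨c, x, hc, hx, fun i => Ideal.Quotient.eq.1 ?_, fun i j => Ideal.Quotient.eq.1 ?_⟩
      · show bar J _ _ = bar J _ _
        rw [← red_mk, ← red_mk, hc, hx, D.redφ]
      · show bar J _ _ = bar J _ _
        rw [← red_mk, ← red_mk, hx, hx, D.redb]
    | succ k ih =>
      obtain ⟨c, x, h1, h2, h3, h4⟩ := ih
      obtain ⟨c', x', h1', h2', h3', h4'⟩ := D.improve hJ hI hq (k + 1) k.succ_ne_zero c x h3 h4
      exact ⟨c', x', h1'.trans h1, fun i => (h2' i).trans (h2 i), h3', h4'⟩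
  obtain ⟨n, hn⟩ := hJ
  obtain ⟨c, x, h1, h2, h3, h4⟩ := step n
  have hbot : ∀ (W : Type u) [CommRing W] [Algebra A W], (J ^ (n + 1)).map (algebraMap A W) = ⊥ := fun W _ _ => by
    rw [pow_succ, hn]
    simp
  refine ⟨⟨(c, x), fun i => sub_eq_zero.1 ((hbot _).le (h3 i)),
    fun i j => sub_eq_zero.1 ((hbot _).le (h4 i j))⟩, ?_⟩
  refine D.reduction_unique ⟨n, hn⟩ hI hq ?_ fun i => ?_
  · rw [reduction_fst]; exact h1
  · rw [reduction_snd]; exact h2 i

include hJ hI hq in
theorem reduction_kills (hJB : ∀ j ∈ J, algebraMap A B₀ j = 0) (z : D.glued)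
    (hz : z ∈ J.map (algebraMap A D.glued)) : D.reduction hJ hI hq z = 0 := by
  have : J.map (algebraMap A D.glued) ≤ RingHom.ker (D.reduction hJ hI hq) :=
    Ideal.map_le_iff_le_comap.2 fun j hj => by
      rw [Ideal.mem_comap, RingHom.mem_ker, AlgHom.commutes, hJB j hj]
  exact this hz

include hJ hI hq in
theorem mem_of_reduction_eq_zero (z : D.glued) (hz : D.reduction hJ hI hq z = 0) :
    z ∈ J.map (algebraMap A D.glued) := by
  obtain ⟨n, hn⟩ := hJ
  have main : ∀ d k : ℕ, k ≠ 0 → n ≤ k + d → ∀ z : D.glued, z.1.1 ∈ (J ^ k).map (algebraMap A C) →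
      (∀ i, z.1.2 i ∈ (J ^ k).map (algebraMap A (D.W i))) → z ∈ J.map (algebraMap A D.glued) := by
    intro d
    induction d with
    | zero =>
      intro k hk hnk z h1 h2
      have hbot : J ^ k = ⊥ := le_bot_iff.1 ((Ideal.pow_le_pow_right hnk).trans hn.le)
      simp only [hbot, Ideal.map_bot, Submodule.mem_bot] at h1 h2
      rw [show z = 0 from Subtype.ext (Prod.ext h1 (funext h2))]
      exact zero_mem _
    | succ d ih =>
      intro k hk hnk z h1 h2
      obtain ⟨y, hy⟩ := exists_kappa_eq (D := C) J k (B₀ := B₀) (AlgHom.id A (Bar J C))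
        (IsScalarTower.toAlgHom A B₀ (Bar J C)) (fun _ => rfl) (fun s => ⟨s ⊗ₜ 1, by simp [mu_tmul]⟩) h1
      choose m hm using fun i => exists_tau_eq J k (h2 i)
      have hJ : IsNilpotent J := ⟨n, hn⟩
      obtain ⟨t, ht, ht'⟩ := glue_elem (S := Bar J C) (fun i => algebraMap A B₀ (f i)) (span_range hI) hq
        (l := D.lT k) y m
        (fun i => D.kappa_inj k i (by rw [kappa_l, hy, kappa_one, hm, red_mk, red_mk, z.2.1 i]))
        (fun t ht i => by
          obtain ⟨L, hL⟩ := (D.locσ i).rTensor_ker _ t (ht i)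
          exact ⟨L, by rw [smul_fB, hL]⟩)
        (fun i => by
          obtain ⟨K, t, ht⟩ := (D.locσ i).rTensor_surj _ (m i)
          have hti : D.lT k i t = f i ^ K • m i := ht
          have h : ∀ j, ∃ L, f i ^ L • (D.lT k j t - f i ^ K • m j) = 0 := fun j => by
            obtain ⟨L, hL⟩ := ((D.loc_b hJ i j).red (J ^ (k + 1))).ker
              (tau _ J k (D.lT k j t - f i ^ K • m j)) (by
                rw [← tau_bT, map_sub, LinearMap.map_smul_of_tower, ← LinearMap.comp_apply, ← l_overlap,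
                  LinearMap.comp_apply, hti, map_sub, LinearMap.map_smul_of_tower, map_smul, map_smul,
                  tau_aT, tau_bT, hm, hm, red_mk, red_mk, z.2.2 i j, sub_self])
            refine ⟨L, tau_injective J k ?_⟩
            rw [map_smul, map_zero, Algebra.smul_def, map_pow, hL]
          choose L hL using h
          refine ⟨(∑ j, L j) + K, f i ^ (∑ j, L j) • t, fun j => ?_⟩
          obtain ⟨e, he⟩ := exists_add_of_le (Finset.single_le_sum (f := L) (fun _ _ => Nat.zero_le _)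
            (Finset.mem_univ j))
          rw [LinearMap.map_smul_of_tower, smul_fB, pow_add, mul_smul, ← sub_eq_zero, smul_sub_tensor, he, add_comm,
            pow_add, mul_smul, hL, smul_zero])
      have key : ∀ t : B₀ ⊗[A] ↥(J ^ k), ∃ w : D.glued, w ∈ J.map (algebraMap A D.glued) ∧
          bar (J ^ (k + 1)) C w.1.1 = κ₀ k ((1 : Bar J C) ⊗ₜ t) ∧
          ∀ i, bar (J ^ (k + 1)) (D.W i) (w.1.2 i) = tau _ J k (D.lT k i t) := fun t => by
        induction t using TensorProduct.induction_on with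
        | zero => exact ⟨0, zero_mem _, by simp, fun i => by simp⟩
        | add p q hp hq =>
          obtain ⟨u, hu, hu1, hu2⟩ := hp
          obtain ⟨v, hv, hv1, hv2⟩ := hq
          refine ⟨u + v, add_mem hu hv, ?_, fun i => ?_⟩
          · rw [tmul_add, map_add, ← hu1, ← hv1, ← map_add]; rfl
          · rw [map_add (D.lT k i), map_add, ← hu2, ← hv2, ← map_add]; rfl
        | tmul r j =>
          obtain ⟨b, rfl⟩ := D.reduction_surjective hJ hI hq r
          refine ⟨(j : A) • b, ?_, ?_, fun i => ?_⟩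
          · rw [Algebra.smul_def]
            exact Ideal.mul_mem_right _ _ (Ideal.mem_map_of_mem _ (Ideal.pow_le_self hk j.2))
          · rw [κ₀, kappa_tmul, map_one, one_mul, IsScalarTower.coe_toAlgHom', reduction_fst, tau_tmul]
            rfl
          · show _ = tau _ J k (D.σ i _ ⊗ₜ j)
            rw [reduction_snd, tau_tmul]
            rfl
      obtain ⟨w, hw, hw1, hw2⟩ := key t
      have hsub : z - w ∈ J.map (algebraMap A D.glued) := by
        refine ih (k + 1) k.succ_ne_zero (by omega) (z - w) ?_ fun i => ?_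
        · refine Ideal.Quotient.eq.1 ?_
          show bar (J ^ (k + 1)) C _ = bar (J ^ (k + 1)) C _
          rw [hw1, ht]
          exact hy.symm
        · refine Ideal.Quotient.eq.1 ?_
          show bar (J ^ (k + 1)) (D.W i) _ = bar (J ^ (k + 1)) (D.W i) _
          rw [hw2, ht']
          exact (hm i).symm
      simpa using add_mem hsub hw
  have hJ : IsNilpotent J := ⟨n, hn⟩
  refine main n 1 one_ne_zero (by omega) z ?_ fun i => ?_
  · rw [pow_one]
    exact Ideal.Quotient.eq_zero_iff_mem.1 ((D.reduction_fst hJ hI hq z).symm.trans (by rw [hz, map_zero]))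
  · rw [pow_one]
    exact Ideal.Quotient.eq_zero_iff_mem.1 ((D.reduction_snd hJ hI hq z i).symm.trans (by rw [hz, map_zero]))

end GrothLib.EtLift16.Setup
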