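import Groth.Agent.Lib.EtLift16.Basics
import Groth.Agent.Lib.EtLift16.Glue
import Mathlib.LinearAlgebra.TensorProduct.Associator
import Mathlib.RingTheory.Flat.Stability
import Mathlib.RingTheory.Localization.BaseChange
import Mathlib.RingTheory.Etale.Basic
import Mathlib.RingTheory.Smooth.Flat

/-!
# Comparison of the graded pieces
-/

set_option autoImplicit false
universe u

open TensorProduct

namespace GrothLib.EtLift16

variable {A : Type u} [CommRing A] (J : Ideal A) (k : ℕ) {B₀ S : Type u} [CommRing B₀] [CommRing S]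
  [Algebra A B₀] [Algebra A S] [Algebra B₀ S] [IsScalarTower A B₀ S]
  {V V' : Type u} [CommRing V] [Algebra A V] [Algebra B₀ V] [IsScalarTower A B₀ V]
  [CommRing V'] [Algebra A V'] [Algebra B₀ V'] [IsScalarTower A B₀ V']

/-- A map of `A`-algebras compatible with `B₀`, as a `B₀`-linear map. -/
def asLinear (h : V →ₐ[A] V') (hc : ∀ r : B₀, h (algebraMap B₀ V r) = algebraMap B₀ V' r) : V →ₗ[B₀] V' where
  toFun := h
  map_add' := map_add h
  map_smul' r v := by rw [Algebra.smul_def, map_mul, hc, RingHom.id_apply, Algebra.smul_def]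

@[simp] theorem asLinear_apply (h : V →ₐ[A] V') (hc : ∀ r : B₀, h (algebraMap B₀ V r) = algebraMap B₀ V' r)
    (v : V) : asLinear h hc v = h v := rfl

variable {D : Type u} [CommRing D] [Algebra A D] (α : S →ₐ[A] D) (β : V →ₐ[A] D)
  (hαβ : ∀ r : B₀, α (algebraMap B₀ S r) = β (algebraMap B₀ V r))

/-- The product map. -/
noncomputable def muAdd : S ⊗[B₀] V →+ D :=
  TensorProduct.liftAddHom
    { toFun := fun s =>
        { toFun := fun v => α s * β v
          map_zero' := by simp
          map_add' := fun v w => by rw [map_add, mul_add] }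
      map_zero' := AddMonoidHom.ext fun v => by simp
      map_add' := fun s t => AddMonoidHom.ext fun v => by simp [add_mul] }
    fun r s v => by
      show α (r • s) * β v = α s * β (r • v)
      rw [Algebra.smul_def, Algebra.smul_def, map_mul, map_mul, hαβ]
      ring

theorem muAdd_tmul (s : S) (v : V) : muAdd α β hαβ (s ⊗ₜ v) = α s * β v := rfl

/-- The product map, linear over the base. -/
noncomputable def mu : S ⊗[B₀] V →ₗ[A] D where
  toFun := muAdd α β hαβ
  map_add' := map_add _
  map_smul' c z := by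
    induction z using TensorProduct.induction_on with
    | zero => simp
    | add p q hp hq =>
      rw [smul_add, map_add, map_add, hp, hq, RingHom.id_apply, smul_add]
    | tmul s v =>
      rw [RingHom.id_apply, smul_tmul', muAdd_tmul, muAdd_tmul, map_smul, smul_mul_assoc]

theorem mu_tmul (s : S) (v : V) : mu α β hαβ (s ⊗ₜ v) = α s * β v := rfl

theorem mu_surjective {a : A} (hV : Loc a (IsScalarTower.toAlgHom A B₀ V)) (hS : Loc a α) :
    Function.Surjective (mu α β hαβ) := fun d => by
  obtain ⟨n, s, hs⟩ := hS.surj d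
  obtain ⟨w, hw⟩ := (hV.unit.pow n).exists_left_inv
  refine ⟨s ⊗ₜ w, ?_⟩
  have h1 : β w * algebraMap A D a ^ n = 1 := by
    rw [← β.commutes, ← map_pow, ← map_mul, hw, map_one]
  rw [mu_tmul, ← hs, mul_comm (algebraMap A D a ^ n) d, mul_assoc, mul_comm (algebraMap A D a ^ n) (β w), h1,
    mul_one]

theorem exists_single {a : A} (hV : Loc a (IsScalarTower.toAlgHom A B₀ V)) (z : S ⊗[B₀] V) :
    ∃ (n : ℕ) (s : S), algebraMap A B₀ a ^ n • z = s ⊗ₜ[B₀] (1 : V) := by
  induction z using TensorProduct.induction_on with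
  | zero => exact ⟨0, 0, by simp⟩
  | add p q hp hq =>
    obtain ⟨m, s, hs⟩ := hp
    obtain ⟨n, t, ht⟩ := hq
    refine ⟨m + n, algebraMap A B₀ a ^ n • s + algebraMap A B₀ a ^ m • t, ?_⟩
    rw [smul_add, add_tmul, ← smul_tmul', ← smul_tmul', ← hs, ← ht, pow_add, mul_smul, mul_smul,
      smul_comm (algebraMap A B₀ a ^ n)]
  | tmul s v =>
    obtain ⟨n, r, hr⟩ := hV.surj v
    refine ⟨n, r • s, ?_⟩
    rw [smul_tmul, ← tmul_smul]
    congr 1
    rw [Algebra.smul_def, Algebra.smul_def, mul_one, map_pow, ← IsScalarTower.algebraMap_apply, hr]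
    rfl

theorem mu_injective {a : A} (hV : Loc a (IsScalarTower.toAlgHom A B₀ V)) (hS : Loc a α) :
    Function.Injective (mu α β hαβ) := by
  refine (injective_iff_map_eq_zero _).2 fun z hz => ?_
  obtain ⟨n, s, hs⟩ := exists_single hV z
  have hu : IsUnit (algebraMap B₀ V (algebraMap A B₀ a)) := by
    rw [← IsScalarTower.algebraMap_apply]; exact hV.unit
  have h1 : α s = 0 := by
    have := congrArg (mu α β hαβ) hs
    rw [mu_tmul, map_one, mul_one, ← map_pow, algebraMap_smul, map_smul, hz, smul_zero] at this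
    exact this.symm
  obtain ⟨l, hl⟩ := hS.ker s h1
  have h2 : algebraMap A B₀ a ^ (l + n) • z = 0 := by
    rw [pow_add, mul_smul, hs, smul_tmul', Algebra.smul_def, map_pow, ← IsScalarTower.algebraMap_apply, hl,
      zero_tmul]
  obtain ⟨w, hw⟩ := (hu.pow (l + n)).exists_left_inv
  have h3 : ∀ y : S ⊗[B₀] V, (LinearMap.mulLeft B₀ w).lTensor S (algebraMap A B₀ a ^ (l + n) • y) = y := fun y => by
    induction y using TensorProduct.induction_on with
    | zero => simp
    | add p q hp hq => rw [smul_add, map_add, hp, hq]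
    | tmul s v =>
      rw [← tmul_smul, LinearMap.lTensor_tmul]
      congr 1
      rw [LinearMap.mulLeft_apply, Algebra.smul_def, map_pow, ← mul_assoc, hw, one_mul]
  rw [← h3 z, h2, map_zero]

section kappa

variable {D : Type u} [CommRing D] [Algebra A D] (α : S →ₐ[A] Bar J D) (β : V →ₐ[A] Bar J D)
  (hαβ : ∀ r : B₀, α (algebraMap B₀ S r) = β (algebraMap B₀ V r))

/-- The comparison map. -/
noncomputable def kappa : S ⊗[B₀] (V ⊗[A] ↥(J ^ k)) →+ Bar (J ^ (k + 1)) D :=
  (tau D J k).toAddMonoidHom.comp (((mu α β hαβ).rTensor _).toAddMonoidHom.comp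
    (AlgebraTensorModule.assoc A B₀ B₀ S V ↥(J ^ k)).symm.toLinearMap.toAddMonoidHom)

theorem kappa_tmul (s : S) (v : V) (j : ↥(J ^ k)) :
    kappa J k α β hαβ (s ⊗ₜ (v ⊗ₜ j)) = tau D J k ((α s * β v) ⊗ₜ j) := rfl

theorem kappa_smul (c : A) (z : S ⊗[B₀] (V ⊗[A] ↥(J ^ k))) :
    kappa J k α β hαβ (algebraMap A B₀ c • z) = c • kappa J k α β hαβ z := by
  induction z using TensorProduct.induction_on with
  | zero => simp
  | add p q hp hq => rw [smul_add, map_add, hp, hq, map_add, smul_add]
  | tmul s w =>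
    induction w using TensorProduct.induction_on with
    | zero => simp
    | add p q hp hq => rw [tmul_add, smul_add, map_add, hp, hq, map_add, smul_add]
    | tmul v j =>
      rw [smul_tmul', algebraMap_smul, kappa_tmul, kappa_tmul, ← map_smul, map_smul α, smul_mul_assoc, smul_tmul']

theorem kappa_smul_pow (c : A) (n : ℕ) (z : S ⊗[B₀] (V ⊗[A] ↥(J ^ k))) :
    kappa J k α β hαβ (algebraMap A B₀ c ^ n • z) = c ^ n • kappa J k α β hαβ z := by
  rw [← map_pow, kappa_smul]

theorem kappa_one_tmul (w : V ⊗[A] ↥(J ^ k)) :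
    kappa J k α β hαβ ((1 : S) ⊗ₜ w) = tau D J k (β.toLinearMap.rTensor _ w) := by
  induction w using TensorProduct.induction_on with
  | zero => simp
  | add p q hp hq => rw [tmul_add, map_add, hp, hq, map_add, map_add]
  | tmul v j => rw [kappa_tmul, map_one, one_mul]; rfl

theorem kappa_natural {D' : Type u} [CommRing D'] [Algebra A D'] (α' : S →ₐ[A] Bar J D') (β' : V' →ₐ[A] Bar J D')
    (hαβ' : ∀ r : B₀, α' (algebraMap B₀ S r) = β' (algebraMap B₀ V' r)) (θ : V →ₗ[B₀] V') (h : D →ₐ[A] D')
    (hα : ∀ s, red J h (α s) = α' s) (hβ : ∀ v, red J h (β v) = β' (θ v))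
    (z : S ⊗[B₀] (V ⊗[A] ↥(J ^ k))) :
    kappa J k α' β' hαβ' ((AlgebraTensorModule.rTensor A ↥(J ^ k) θ).lTensor S z) =
      red (J ^ (k + 1)) h (kappa J k α β hαβ z) := by
  induction z using TensorProduct.induction_on with
  | zero => simp
  | add p q hp hq => simp only [map_add, hp, hq]
  | tmul s w =>
    induction w using TensorProduct.induction_on with
    | zero => simp
    | add p q hp hq => simp only [tmul_add, map_add, hp, hq]
    | tmul v j =>
      rw [LinearMap.lTensor_tmul, show AlgebraTensorModule.rTensor A ↥(J ^ k) θ (v ⊗ₜ[A] j) = θ v ⊗ₜ[A] j from rfl,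
        kappa_tmul, kappa_tmul, ← tau_natural, LinearMap.rTensor_tmul, AlgHom.toLinearMap_apply, map_mul, hα, hβ]

theorem kappa_injective [Module.Flat A D] {a : A} (hV : Loc a (IsScalarTower.toAlgHom A B₀ V)) (hS : Loc a α) :
    Function.Injective (kappa J k α β hαβ) := by
  let e := LinearEquiv.ofBijective (mu α β hαβ) ⟨mu_injective α β hαβ hV hS, mu_surjective α β hαβ hV hS⟩
  exact (tau_injective J k).comp ((e.rTensor ↥(J ^ k)).injective.comp
    (AlgebraTensorModule.assoc A B₀ B₀ S V ↥(J ^ k)).symm.injective)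

theorem exists_kappa_eq (hsurj : Function.Surjective (mu α β hαβ)) {x : D}
    (hx : x ∈ (J ^ k).map (algebraMap A D)) :
    ∃ z, kappa J k α β hαβ z = bar (J ^ (k + 1)) D x := by
  obtain ⟨z, hz⟩ := exists_tau_eq J k hx
  obtain ⟨w, rfl⟩ := LinearMap.rTensor_surjective ↥(J ^ k) hsurj z
  refine ⟨AlgebraTensorModule.assoc A B₀ B₀ S V ↥(J ^ k) w, ?_⟩
  rw [← hz]
  show tau D J k ((mu α β hαβ).rTensor _ ((AlgebraTensorModule.assoc A B₀ B₀ S V ↥(J ^ k)).symm _)) = _
  rw [LinearEquiv.symm_apply_apply]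

end kappa

end GrothLib.EtLift16
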