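import Groth.Agent.Lib.EtLift16.Glued
import Mathlib.RingTheory.Etale.Locus
import Mathlib.RingTheory.FiniteType

/-!
# Finiteness and étaleness of the glued lift
-/

set_option autoImplicit false
universe u

open TensorProduct

namespace GrothLib.EtLift16

variable {A : Type u} [CommRing A] {J : Ideal A}

/-- Nakayama for a nilpotent ideal. -/
theorem eq_top_of_sup_smul_top {M : Type u} [AddCommGroup M] [Module A M] (hJ : IsNilpotent J)
    (N : Submodule A M) (h : ∀ x : M, ∃ y ∈ N, x - y ∈ J • (⊤ : Submodule A M)) : N = ⊤ := by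
  obtain ⟨n, hn⟩ := hJ
  have h1 : N ⊔ J • (⊤ : Submodule A M) = ⊤ := eq_top_iff.2 fun x _ => by
    obtain ⟨y, hy, hxy⟩ := h x
    simpa using Submodule.add_mem_sup hy hxy
  have h2 : ∀ k, N ⊔ J ^ k • (⊤ : Submodule A M) = ⊤ := fun k => by
    induction k with
    | zero => simp
    | succ k ih =>
      refine eq_top_iff.2 (ih.ge.trans (sup_le le_sup_left ?_))
      conv_lhs => rw [← h1]
      rw [Submodule.smul_sup, ← mul_smul, ← pow_succ]
      exact sup_le (Submodule.smul_le_right.trans le_sup_left) le_sup_right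
  simpa [hn] using h2 n

theorem mem_smul_top {W : Type u} [CommRing W] [Algebra A W] {x : W} (hx : x ∈ J.map (algebraMap A W)) :
    x ∈ J • (⊤ : Submodule A W) := by
  rw [Ideal.smul_top_eq_map]
  exact hx

/-- An ideal containing `IR` is recovered from its extension. -/
theorem mem_of_algebraMap_mem {R S : Type u} [CommRing R] [CommRing S] [Algebra R S] {IR 𝔟 : Ideal R} {IS : Ideal S}
    (h1 : ∀ c : S, ∃ b : R, algebraMap R S b - c ∈ IS) (h2 : ∀ b : R, algebraMap R S b ∈ IS → b ∈ IR)
    (hle : IR ≤ 𝔟) {x : R} (hx : algebraMap R S x ∈ 𝔟.map (algebraMap R S)) : x ∈ 𝔟 := by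
  have key : ∀ y ∈ 𝔟.map (algebraMap R S), ∃ r ∈ 𝔟, y - algebraMap R S r ∈ IS := fun y hy => by
    induction hy using Submodule.span_induction with
    | mem y hy =>
      obtain ⟨r, hr, rfl⟩ := hy
      exact ⟨r, hr, by simp⟩
    | zero => exact ⟨0, zero_mem _, by simp⟩
    | add p q _ _ hp hq =>
      obtain ⟨r, hr, hr'⟩ := hp
      obtain ⟨s, hs, hs'⟩ := hq
      exact ⟨r + s, add_mem hr hs, by rw [map_add, add_sub_add_comm]; exact add_mem hr' hs'⟩
    | smul c p _ hp =>
      obtain ⟨r, hr, hr'⟩ := hp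
      obtain ⟨e, he⟩ := h1 c
      refine ⟨e * r, Ideal.mul_mem_left _ _ hr, ?_⟩
      rw [smul_eq_mul, map_mul, show c * p - algebraMap R S e * algebraMap R S r =
        c * (p - algebraMap R S r) - (algebraMap R S e - c) * algebraMap R S r by ring]
      exact sub_mem (Ideal.mul_mem_left _ _ hr') (Ideal.mul_mem_right _ _ he)
  obtain ⟨r, hr, hxr⟩ := key _ hx
  simpa using add_mem (hle (h2 (x - r) (by rwa [map_sub]))) hr

variable {B₀ C : Type u} [CommRing B₀] [Algebra A B₀] [CommRing C] [Algebra A C] [Algebra B₀ (Bar J C)]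
  [IsScalarTower A B₀ (Bar J C)] {ι : Type} [Fintype ι] {f : ι → A}

theorem bijective_quotientMap {I : Ideal A}
    (h1 : ∀ c : Bar J C, ∃ b : B₀, algebraMap B₀ (Bar J C) b - c ∈ I.map (algebraMap A (Bar J C)))
    (h2 : ∀ b : B₀, algebraMap B₀ (Bar J C) b ∈ I.map (algebraMap A (Bar J C)) → b ∈ I.map (algebraMap A B₀)) :
    Function.Bijective (Ideal.quotientMap ((I.map (algebraMap A B₀)).map (algebraMap B₀ (Bar J C)))
      (algebraMap B₀ (Bar J C)) Ideal.le_comap_map) := by
  have e : (I.map (algebraMap A B₀)).map (algebraMap B₀ (Bar J C)) = I.map (algebraMap A (Bar J C)) := by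
    rw [Ideal.map_map, ← IsScalarTower.algebraMap_eq]
  refine ⟨(injective_iff_map_eq_zero _).2 fun x hx => ?_, fun y => ?_⟩
  · obtain ⟨x, rfl⟩ := Ideal.Quotient.mk_surjective x
    rw [Ideal.quotientMap_mk, Ideal.Quotient.eq_zero_iff_mem, e] at hx
    exact Ideal.Quotient.eq_zero_iff_mem.2 (h2 x hx)
  · obtain ⟨c, rfl⟩ := Ideal.Quotient.mk_surjective y
    obtain ⟨b, hb⟩ := h1 c
    refine ⟨Ideal.Quotient.mk _ b, ?_⟩
    rw [Ideal.quotientMap_mk, Ideal.Quotient.eq, e]
    exact hb

theorem etale_away_of_generators {B : Type u} [CommRing B] [Algebra A B] [IsNoetherianRing A]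
    [Algebra.FiniteType A B] {I : Ideal A} (hI : Ideal.span (Set.range f) = I)
    (h : ∀ i, Algebra.Etale A (Away' B (f i))) {a : A} (ha : a ∈ I) :
    Algebra.Etale A (Away' B a) := by
  haveI : Algebra.FinitePresentation A B := Algebra.FinitePresentation.of_finiteType.1 inferInstance
  refine Algebra.basicOpen_subset_etaleLocus_iff_etale.1 fun P hP => ?_
  by_cases hall : ∀ i, algebraMap A B (f i) ∈ P.asIdeal
  · exfalso
    have : I ≤ P.asIdeal.comap (algebraMap A B) := by
      rw [← hI, Ideal.span_le]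
      rintro _ ⟨i, rfl⟩
      exact hall i
    exact hP (this ha)
  · obtain ⟨i, hi⟩ := not_forall.1 hall
    exact (Algebra.basicOpen_subset_etaleLocus_iff_etale.2 (h i)) hi

namespace Setup

variable (D : Setup J B₀ C f) (hJ : IsNilpotent J)

/-- The projection to a local lift. -/
def proj (i : ι) : D.glued →ₐ[A] D.W i :=
  ((Pi.evalAlgHom A D.W i).comp (AlgHom.snd A C (∀ i, D.W i))).comp D.glued.val

/-- The projection to `C`. -/
def toC : D.glued →ₐ[A] C := (AlgHom.fst A C (∀ i, D.W i)).comp D.glued.val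

omit [Fintype ι] in
theorem proj_apply (z : D.glued) (i : ι) : D.proj i z = z.1.2 i := rfl

omit [Fintype ι] in
theorem toC_apply (z : D.glued) : D.toC z = z.1.1 := rfl

omit [Fintype ι] in
theorem glued_ext {z w : D.glued} (h1 : D.toC z = D.toC w) (h2 : ∀ i, D.proj i z = D.proj i w) : z = w :=
  Subtype.ext (Prod.ext h1 (funext h2))

theorem uniform {κ : Type} [Fintype κ] {R : Type u} [CommRing R] (L : κ → ℕ) (r : R) (x : κ) :
    ∃ e, r ^ (∑ y, L y) = r ^ e * r ^ L x := by
  obtain ⟨e, he⟩ := exists_add_of_le (Finset.single_le_sum (f := L) (fun _ _ => Nat.zero_le _) (Finset.mem_univ x))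
  exact ⟨e, by rw [he, add_comm, pow_add]⟩

include hJ in
theorem loc_proj (i : ι) : Loc (f i) (D.proj i) where
  unit := D.unitW hJ i
  ker z hz := by
    rw [proj_apply] at hz
    obtain ⟨k, hk⟩ : ∃ k, algebraMap A C (f i) ^ k * z.1.1 = 0 :=
      (loc_toAway C (f i)).ker _ (by rw [z.2.1 i, hz, map_zero])
    have h : ∀ j, ∃ l, algebraMap A (D.W j) (f i) ^ l * z.1.2 j = 0 := fun j =>
      (D.loc_a j i).ker _ (by rw [z.2.2 j i, hz, map_zero])
    choose L hL using h
    refine ⟨(∑ j, L j) + k, D.glued_ext ?_ fun j => ?_⟩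
    · rw [pow_apply, toC_apply, pow_add, mul_assoc, hk, mul_zero, map_zero]
    · obtain ⟨e, he⟩ := uniform L (algebraMap A (D.W j) (f i)) j
      rw [pow_apply, proj_apply, map_zero, pow_add, mul_comm (_ ^ (∑ j, L j)), mul_assoc, he, mul_assoc, hL,
        mul_zero, mul_zero]
  surj y := by
    obtain ⟨k, c, hc⟩ := (loc_toAway C (f i)).surj (D.φ i y)
    have h : ∀ j, ∃ (l : ℕ) (x : D.W j), algebraMap A _ (f i) ^ l *
        D.b j i (algebraMap A (D.W i) (f i) ^ k * y) = D.a j i x := fun j => (D.loc_a j i).surj _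
    choose L x hx using h
    let M₁ := ∑ j, L j
    let Y := algebraMap A (D.W i) (f i) ^ (M₁ + k) * y
    have hx' : ∀ j, ∃ x' : D.W j, D.a j i x' = D.b j i Y := fun j => by
      obtain ⟨e, he⟩ := uniform L (algebraMap A (Away' (D.W j) (f i)) (f i)) j
      refine ⟨algebraMap A (D.W j) (f i) ^ e * x j, ?_⟩
      rw [pow_apply, ← hx, ← mul_assoc, ← he, pow_apply, pow_apply, ← mul_assoc, ← pow_add]
    choose x' hx' using hx'
    let c' := algebraMap A C (f i) ^ M₁ * c
    have hc' : toAway C (f i) c' = D.φ i Y := by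
      rw [pow_apply, ← hc, pow_apply, ← mul_assoc, ← pow_add]
    have h1 : ∀ p : ι × ι, ∃ l : ℕ, f i ^ l • (D.a p.1 p.2 (x' p.1) - D.b p.1 p.2 (x' p.2)) = 0 :=
      fun p => D.torsion' hJ _ _ Y (hx' p.1) (hx' p.2)
    have h2 : ∀ j, ∃ l : ℕ, algebraMap A (Away' C (f j)) (f i) ^ l *
        (toAway C (f j) c' - D.φ j (x' j)) = 0 := fun j => by
      refine (loc_toAway (Away' C (f j)) (f i)).ker _ ?_
      show aC C f j i _ = 0
      rw [map_sub, ← bC_apply j i, hc', ← AlgHom.comp_apply (bC C f j i) (D.φ i), ← D.φ2_b hJ,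
        AlgHom.comp_apply, ← hx', ← AlgHom.comp_apply (D.φ2 j i) (D.a j i), φ2_a, AlgHom.comp_apply, sub_self]
    obtain ⟨M₀, hM₀⟩ := (D.loc_a i i).ker (x' i - Y) (by
      rw [map_sub, hx', show D.b i i = D.a i i from D.hom_ext hJ fun r => by rw [D.redb], sub_self])
    choose L1 hL1 using h1
    choose L2 hL2 using h2
    let M := (∑ p, L1 p) + (∑ j, L2 j) + M₀
    have g1 : ∀ j, toAway C (f j) (algebraMap A C (f i) ^ M * c') =
        D.φ j (algebraMap A (D.W j) (f i) ^ M * x' j) := fun j => by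
      obtain ⟨e, he⟩ := uniform L2 (algebraMap A (Away' C (f j)) (f i)) j
      rw [pow_apply M, pow_apply M (D.φ j), ← sub_eq_zero, ← mul_sub]
      simp only [M, pow_add]
      rw [he]
      linear_combination (algebraMap A (Away' C (f j)) (f i) ^ (∑ p, L1 p) *
        algebraMap A (Away' C (f j)) (f i) ^ e * algebraMap A (Away' C (f j)) (f i) ^ M₀) * hL2 j
    have g2 : ∀ j l, D.a j l (algebraMap A (D.W j) (f i) ^ M * x' j) =
        D.b j l (algebraMap A (D.W l) (f i) ^ M * x' l) := fun j l => by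
      obtain ⟨e, he⟩ := uniform L1 (algebraMap A (Away' (D.W j) (f l)) (f i)) (j, l)
      have h := hL1 (j, l)
      rw [Algebra.smul_def, map_pow] at h
      rw [pow_apply, pow_apply, ← sub_eq_zero, ← mul_sub]
      simp only [M, pow_add]
      rw [he]
      linear_combination (algebraMap A (Away' (D.W j) (f l)) (f i) ^ e *
        algebraMap A (Away' (D.W j) (f l)) (f i) ^ (∑ j, L2 j) *
        algebraMap A (Away' (D.W j) (f l)) (f i) ^ M₀) * h
    refine ⟨M + (M₁ + k), ⟨(algebraMap A C (f i) ^ M * c', fun j => algebraMap A (D.W j) (f i) ^ M * x' j),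
      g1, g2⟩, ?_⟩
    show _ = algebraMap A (D.W i) (f i) ^ M * x' i
    rw [pow_add, mul_assoc, eq_comm, ← sub_eq_zero, ← mul_sub]
    simp only [M, pow_add]
    rw [mul_assoc _ (algebraMap A (D.W i) (f i) ^ M₀)]
    simp only [Y, pow_add] at hM₀ ⊢
    rw [hM₀, mul_zero]

include hJ in
theorem etale_away (i : ι) : Algebra.Etale A (Away' D.glued (f i)) := by
  letI : Algebra D.glued (D.W i) := (D.proj i).toRingHom.toAlgebra
  haveI : IsScalarTower A D.glued (D.W i) := IsScalarTower.of_algebraMap_eq' (D.proj i).comp_algebraMap.symm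
  haveI : IsLocalization.Away (algebraMap A D.glued (f i)) (D.W i) := (D.loc_proj hJ i).isLocalization
  exact Algebra.Etale.of_equiv
    ((Localization.algEquiv (Submonoid.powers (algebraMap A D.glued (f i))) (D.W i)).symm.restrictScalars A)

include hJ in
theorem finiteType [∀ i, Algebra.Etale A (Away' C (f i))] [Module.Flat B₀ (Bar J C)]
    [Algebra.FiniteType A B₀] {I : Ideal A} (hI : Ideal.span (Set.range f) = I)
    (hq : Function.Bijective (Ideal.quotientMap ((I.map (algebraMap A B₀)).map (algebraMap B₀ (Bar J C)))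
      (algebraMap B₀ (Bar J C)) Ideal.le_comap_map)) : Algebra.FiniteType A D.glued := by
  obtain ⟨s, hs⟩ := Algebra.FiniteType.out (R := A) (A := B₀)
  choose g hg using D.reduction_surjective hJ hI hq
  classical
  refine ⟨⟨s.image g, ?_⟩⟩
  rw [← Algebra.toSubmodule_eq_top]
  refine eq_top_of_sup_smul_top hJ _ fun z => ?_
  have hmem : D.reduction hJ hI hq z ∈
      (Algebra.adjoin A (↑(s.image g) : Set D.glued)).map (D.reduction hJ hI hq) := by
    rw [AlgHom.map_adjoin, show (D.reduction hJ hI hq) '' ↑(s.image g) = (↑s : Set B₀) by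
      rw [Finset.coe_image, ← Set.image_comp]
      simp [Function.comp_def, hg], hs]
    trivial
  obtain ⟨w, hw, hw'⟩ := hmem
  refine ⟨w, hw, mem_smul_top (D.mem_of_reduction_eq_zero hJ hI hq _ ?_)⟩
  rw [map_sub, sub_eq_zero]
  exact hw'.symm

end Setup

section etale

variable [∀ i, Algebra.Etale A (Away' C (f i))] [Algebra.Etale B₀ (Bar J C)] {I : Ideal A}

/-- A map which is étale modulo `J` and compatible with an étale-local structure is étale. -/
theorem etale_of_reduction (hJ : IsNilpotent J) (hI : Ideal.span (Set.range f) = I)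
    (h1 : ∀ c : Bar J C, ∃ b : B₀, algebraMap B₀ (Bar J C) b - c ∈ I.map (algebraMap A (Bar J C)))
    (h2 : ∀ b : B₀, algebraMap B₀ (Bar J C) b ∈ I.map (algebraMap A (Bar J C)) → b ∈ I.map (algebraMap A B₀))
    {B : Type u} [CommRing B] [Algebra A B] [Algebra B C] [IsScalarTower A B C] (q : B →ₐ[A] B₀)
    (hqs : Function.Surjective q) (hqk : RingHom.ker q = J.map (algebraMap A B))
    (hqC : ∀ z, algebraMap B₀ (Bar J C) (q z) = bar J C (algebraMap B C z))
    (hU : ∀ i, Algebra.FormallyUnramified A (Away' B (f i)))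
    (hsep : ∀ d : B, algebraMap B C d = 0 → (∀ i, ∃ k : ℕ, f i ^ k • d = 0) → d = 0) :
    Algebra.Etale B C := by
  classical
  let e₀ : B ⧸ J.map (algebraMap A B) →+* B₀ :=
    Ideal.Quotient.lift _ q.toRingHom fun x hx => by rw [← hqk] at hx; exact hx
  letI : Algebra (B ⧸ J.map (algebraMap A B)) B₀ := e₀.toAlgebra
  have he₀ : Function.Bijective (Algebra.ofId (B ⧸ J.map (algebraMap A B)) B₀) := by
    refine ⟨(injective_iff_map_eq_zero _).2 fun x hx => ?_, fun r => ?_⟩
    · obtain ⟨x, rfl⟩ := Ideal.Quotient.mk_surjective x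
      exact Ideal.Quotient.eq_zero_iff_mem.2 (hqk ▸ hx)
    · obtain ⟨x, rfl⟩ := hqs r
      exact ⟨Ideal.Quotient.mk _ x, rfl⟩
  haveI : Algebra.Etale (B ⧸ J.map (algebraMap A B)) B₀ := Algebra.Etale.of_equiv (AlgEquiv.ofBijective _ he₀)
  letI : Algebra (B ⧸ J.map (algebraMap A B)) (Bar J C) := ((algebraMap B₀ (Bar J C)).comp e₀).toAlgebra
  haveI : IsScalarTower (B ⧸ J.map (algebraMap A B)) B₀ (Bar J C) := IsScalarTower.of_algebraMap_eq' rfl
  haveI : IsScalarTower B (B ⧸ J.map (algebraMap A B)) (Bar J C) :=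
    IsScalarTower.of_algebraMap_eq fun z => (hqC z).symm
  haveI : Algebra.Etale (B ⧸ J.map (algebraMap A B)) (Bar J C) :=
    Algebra.Etale.comp (B ⧸ J.map (algebraMap A B)) B₀ (Bar J C)
  obtain ⟨T, _, _, π, hT, hπ, hker⟩ :=
    GrothLib.Hensel.exists_etale_lift (J.map (algebraMap A B)) (Bar J C)
  letI : Algebra A T := ((algebraMap B T).comp (algebraMap A B)).toAlgebra
  haveI : IsScalarTower A B T := IsScalarTower.of_algebraMap_eq' rfl
  have hkerA : RingHom.ker π = J.map (algebraMap A T) := by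
    rw [hker, Ideal.map_map, ← IsScalarTower.algebraMap_eq]
  let πA : T →ₐ[A] Bar J C :=
    { π.toRingHom with
      commutes' := fun c => by
        show π (algebraMap A T c) = _
        rw [IsScalarTower.algebraMap_apply A B T, π.commutes, ← IsScalarTower.algebraMap_apply] }
  let e : Bar J T ≃ₐ[A] Bar J C :=
    (Ideal.quotientEquivAlgOfEq A (show J.map (algebraMap A T) = RingHom.ker πA from hkerA.symm)).trans
      (Ideal.quotientKerAlgEquivOfSurjective (f := πA) hπ)
  have he : ∀ x, e (bar J T x) = π x := fun x => rfl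
  let ψ : T →ₐ[B] C := Algebra.FormallySmooth.lift (J.map (algebraMap A C)) (isNilpotent_map hJ C) π
  have hψ : ∀ x, bar J C (ψ x) = π x := fun x =>
    Algebra.FormallySmooth.mk_lift (J.map (algebraMap A C)) (isNilpotent_map hJ C) π x
  let ψA : T →ₐ[A] C := ψ.restrictScalars A
  have hsurj : Function.Surjective ψ := by
    have htop := eq_top_of_sup_smul_top hJ (Subalgebra.toSubmodule ψA.range) fun c => by
      obtain ⟨t, ht⟩ := hπ (bar J C c)
      refine ⟨ψ t, ⟨t, rfl⟩, mem_smul_top ?_⟩
      exact Ideal.Quotient.eq.1 (show bar J C c = bar J C (ψ t) by rw [hψ, ht])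
    intro c
    obtain ⟨t, ht⟩ := htop.ge (Submodule.mem_top (x := c))
    exact ⟨t, ht⟩
  have hloc0 : ∀ i, ∀ x, ψ x = 0 → toAway T (f i) x = 0 := fun i x hx => by
    obtain ⟨g₁, hg₁⟩ := (loc_toAway B (f i)).exists_lift ((toAway T (f i)).comp (IsScalarTower.toAlgHom A B T))
      (loc_toAway T (f i)).unit
    letI : Algebra (Away' B (f i)) (Away' T (f i)) := g₁.toRingHom.toAlgebra
    haveI : IsScalarTower A (Away' B (f i)) (Away' T (f i)) :=
      IsScalarTower.of_algebraMap_eq' g₁.comp_algebraMap.symm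
    haveI : IsScalarTower B (Away' B (f i)) (Away' T (f i)) := IsScalarTower.of_algebraMap_eq fun z => by
      show _ = g₁ (toAway B (f i) z)
      rw [← AlgHom.comp_apply, hg₁, AlgHom.comp_apply]
      exact IsScalarTower.algebraMap_apply B T (Away' T (f i)) z
    haveI : Algebra.Etale B (Away' T (f i)) := inferInstance
    haveI := hU i
    haveI : Algebra.FormallyUnramified (Away' B (f i)) (Away' T (f i)) :=
      Algebra.FormallyUnramified.of_restrictScalars B _ _
    haveI : Algebra.FormallyUnramified A (Away' T (f i)) :=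
      Algebra.FormallyUnramified.comp A (Away' B (f i)) _
    obtain ⟨χ, hχ⟩ := exists_hom (D := Away' T (f i)) hJ ((loc_toAway C (f i)).red J)
      ((red J (toAway T (f i))).comp e.symm.toAlgHom) (loc_toAway T (f i)).unit
    obtain ⟨h', hh'⟩ := (loc_toAway T (f i)).exists_lift ((χ.comp (toAway C (f i))).comp ψA)
      (loc_toAway T (f i)).unit
    have hid : h' = AlgHom.id A _ := GrothLib.EtLift16.hom_ext hJ ((loc_toAway T (f i)).red J)
      (AlgHom.ext fun y => by
        obtain ⟨y, rfl⟩ := bar_surjective J T y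
        rw [AlgHom.comp_apply, AlgHom.comp_apply, red_mk, red_mk, red_mk, ← AlgHom.comp_apply h', hh',
          AlgHom.comp_apply, AlgHom.comp_apply, ← red_mk, ← red_mk, ← AlgHom.comp_apply (red J χ), hχ,
          show ψA y = ψ y from rfl, hψ, ← he, AlgHom.comp_apply]
        show red J (toAway T (f i)) (e.symm (e (bar J T y))) = _
        rw [AlgEquiv.symm_apply_apply, red_mk]
        rfl)
    have h := AlgHom.congr_fun hh' x
    rw [hid, AlgHom.comp_apply, AlgHom.comp_apply, AlgHom.comp_apply] at h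
    rw [show ψA x = 0 from hx, map_zero, map_zero] at h
    exact h
  -- the reductions modulo `I` agree
  have hITB : (I.map (algebraMap A B)).map (algebraMap B T) = I.map (algebraMap A T) := by
    rw [Ideal.map_map, ← IsScalarTower.algebraMap_eq]
  have hqT : Function.Bijective (Ideal.quotientMap ((I.map (algebraMap A B)).map (algebraMap B T))
      (algebraMap B T) Ideal.le_comap_map) := by
    constructor
    · refine (injective_iff_map_eq_zero _).2 fun x hx => ?_
      obtain ⟨b, rfl⟩ := Ideal.Quotient.mk_surjective x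
      rw [Ideal.quotientMap_mk, Ideal.Quotient.eq_zero_iff_mem] at hx
      let IB := I.map (algebraMap A B)
      let m : B →ₗ[B] B ⧸ IB := LinearMap.toSpanSingleton B (B ⧸ IB) (Ideal.Quotient.mk IB b)
      let 𝔞 : Ideal B := LinearMap.ker m
      have hle : IB ≤ 𝔞 := fun y hy => by
        show y • Ideal.Quotient.mk IB b = 0
        rw [Algebra.smul_def, Ideal.Quotient.algebraMap_eq, ← map_mul, Ideal.Quotient.eq_zero_iff_mem]
        exact Ideal.mul_mem_right _ _ hy
      have hinj : Function.Injective (Submodule.liftQ 𝔞 m le_rfl) :=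
        LinearMap.ker_eq_bot.1 (Submodule.ker_liftQ_eq_bot _ _ _ le_rfl)
      have h0 : ∀ y ∈ IB.map (algebraMap B T), y ⊗ₜ[B] (Ideal.Quotient.mk IB 1) = (0 : T ⊗[B] (B ⧸ IB)) := by
        intro y hy
        induction hy using Submodule.span_induction with
        | mem y hy =>
          obtain ⟨z, hz, rfl⟩ := hy
          rw [← mul_one (algebraMap B T z), ← Algebra.smul_def, smul_tmul, Algebra.smul_def,
            Ideal.Quotient.algebraMap_eq, ← map_mul, Ideal.Quotient.eq_zero_iff_mem.2
              (Ideal.mul_mem_right 1 _ hz), tmul_zero]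
        | zero => simp
        | add p q _ _ hp hq => rw [add_tmul, hp, hq, add_zero]
        | smul c p _ hp => rw [← smul_tmul', hp, smul_zero]
      have h1a : (1 : T) ⊗ₜ[B] (Submodule.mkQ 𝔞 (1 : B)) = 0 := by
        apply Module.Flat.lTensor_preserves_injective_linearMap (M := T) _ hinj
        rw [LinearMap.lTensor_tmul, map_zero, Submodule.mkQ_apply, Submodule.liftQ_apply,
          LinearMap.toSpanSingleton_apply, one_smul]
        rw [show Ideal.Quotient.mk IB b = b • Ideal.Quotient.mk IB 1 by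
          rw [Algebra.smul_def, Ideal.Quotient.algebraMap_eq, ← map_mul, mul_one], ← smul_tmul,
          Algebra.smul_def, mul_one]
        exact h0 _ hx
      have hone : (1 : T) ∈ 𝔞.map (algebraMap B T) := by
        have := congrArg (TensorProduct.tensorQuotEquivQuotSMul T 𝔞) h1a
        rw [map_zero, Submodule.mkQ_apply] at this
        erw [TensorProduct.tensorQuotEquivQuotSMul_tmul_mk] at this
        rw [one_smul, Submodule.Quotient.mk_eq_zero, Ideal.smul_top_eq_map] at this
        exact this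
      have hone' : (1 : Bar J C) ∈ (𝔞.map q).map (algebraMap B₀ (Bar J C)) := by
        have := Ideal.mem_map_of_mem π.toRingHom hone
        rw [map_one, Ideal.map_map] at this
        show _ ∈ (𝔞.map q.toRingHom).map (algebraMap B₀ (Bar J C))
        rw [Ideal.map_map]
        convert this using 2
        exact RingHom.ext fun z => (hqC z).trans (π.commutes z).symm
      obtain ⟨a, ha, ha'⟩ := (Ideal.mem_map_iff_of_surjective q.toRingHom hqs).1
        (mem_of_algebraMap_mem (x := (1 : B₀)) (𝔟 := 𝔞.map q.toRingHom) h1 h2 (by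
          have := Ideal.map_mono (f := q.toRingHom) hle
          rwa [Ideal.map_map, show q.toRingHom.comp (algebraMap A B) = algebraMap A B₀ from
            q.comp_algebraMap] at this) (by rw [map_one]; exact hone'))
      replace ha' : q a = 1 := ha'
      have hu : IsUnit a := isUnit_of_bar hJ (by
        rw [show bar J B a = 1 by
          rw [← map_one (bar J B)]
          exact Ideal.Quotient.eq.2 (by rw [← hqk, RingHom.mem_ker, map_sub, ha', map_one, sub_self])]
        exact isUnit_one)
      obtain ⟨v, hv⟩ := hu.exists_left_inv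
      have h1mem : (1 : B) ∈ 𝔞 := hv ▸ Ideal.mul_mem_left _ v ha
      have : m 1 = 0 := h1mem
      rwa [LinearMap.toSpanSingleton_apply, one_smul] at this
    · intro y
      obtain ⟨t, rfl⟩ := Ideal.Quotient.mk_surjective y
      have htop := eq_top_of_sup_smul_top hJ
        (Subalgebra.toSubmodule (IsScalarTower.toAlgHom A B T).range ⊔
          (I.map (algebraMap A T)).restrictScalars A) fun t => by
        obtain ⟨r, hr⟩ := h1 (π t)
        obtain ⟨z, rfl⟩ := hqs r
        rw [show I.map (algebraMap A (Bar J C)) = (I.map (algebraMap A T)).map π.toRingHom by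
          rw [Ideal.map_map]; exact congrArg (Ideal.map · I) πA.comp_algebraMap.symm] at hr
        obtain ⟨v, hv, hv'⟩ := (Ideal.mem_map_iff_of_surjective π.toRingHom hπ).1 hr
        replace hv' : π v = _ := hv'
        refine ⟨algebraMap B T z + -v, Submodule.add_mem_sup ⟨z, rfl⟩ (neg_mem hv), mem_smul_top ?_⟩
        rw [← hkerA, RingHom.mem_ker, map_sub, map_add, map_neg, π.commutes, hv', hqC]
        show π t - (bar J C (algebraMap B C z) + -(bar J C (algebraMap B C z) - π t)) = 0
        abel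
      obtain ⟨_, ⟨z, rfl⟩, v, hv, hzv⟩ := Submodule.mem_sup.1 (htop.ge (Submodule.mem_top (x := t)))
      refine ⟨Ideal.Quotient.mk _ z, ?_⟩
      rw [Ideal.quotientMap_mk, Ideal.Quotient.eq, hITB, ← hzv]
      show algebraMap B T z - (algebraMap B T z + v) ∈ _
      simpa using hv
  have hinj : Function.Injective ψ := by
    refine (injective_iff_map_eq_zero _).2 fun x hx => ?_
    have htors : ∀ i, ∃ k : ℕ, algebraMap A T (f i) ^ k * x = 0 := fun i =>
      (loc_toAway T (f i)).ker x (hloc0 i x hx)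
    let Φ : B →ₗ[B] ∀ i, Away' B (f i) := LinearMap.pi fun i => Algebra.linearMap B (Away' B (f i))
    have hΦ : Φ.lTensor T (x ⊗ₜ (1 : B)) = 0 := eq_zero_of_components _ fun i => by
      rw [← LinearMap.lTensor_comp_apply, LinearMap.proj_pi, LinearMap.lTensor_tmul, Algebra.linearMap_apply,
        map_one]
      obtain ⟨k, hk⟩ := htors i
      obtain ⟨v, hv⟩ := ((loc_toAway B (f i)).unit.pow k).exists_left_inv
      rw [show (1 : Away' B (f i)) = algebraMap A B (f i) ^ k • v by
        rw [Algebra.smul_def, map_pow, ← IsScalarTower.algebraMap_apply A B, mul_comm, hv],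
        ← smul_tmul, Algebra.smul_def, map_pow, ← IsScalarTower.algebraMap_apply A B, hk, zero_tmul]
    obtain ⟨z, hz⟩ := (Module.Flat.lTensor_exact T (N := ↥(LinearMap.ker Φ)) (f := (LinearMap.ker Φ).subtype)
      (g := Φ) (LinearMap.exact_subtype_ker_map Φ) (x ⊗ₜ (1 : B))).1 hΦ
    have hspan : Ideal.span (Set.range fun i => algebraMap A B (f i)) = I.map (algebraMap A B) := by
      rw [← hI, Ideal.map_span, ← Set.range_comp]
      rfl
    have hd0 : ∀ (d : ↥(LinearMap.ker Φ)) (i : ι), ∃ k : ℕ, algebraMap A B (f i) ^ k * (d : B) = 0 := fun d i =>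
      (loc_toAway B (f i)).ker _ (congrFun (LinearMap.mem_ker.1 d.2) i)
    obtain ⟨d, rfl⟩ := Groth.Agent.Glue.surjective_one_tmul_of_pow_smul hqT (fun d : ↥(LinearMap.ker Φ) => by
      obtain ⟨n, hn⟩ := torsion_bound (fun i => algebraMap A B (f i)) hspan (d : B) (hd0 d)
      exact ⟨n, fun a ha => Subtype.ext (hn a ha)⟩) z
    rw [TensorProduct.mk_apply, LinearMap.lTensor_tmul] at hz
    have hxd := congrArg (TensorProduct.rid B T) hz
    rw [TensorProduct.rid_tmul, TensorProduct.rid_tmul, one_smul, Algebra.smul_def, mul_one] at hxd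
    have hd : (d : B) = 0 := hsep d (by
      have := congrArg ψ hxd
      rw [hx, AlgHom.commutes] at this
      exact this) fun i => by
      obtain ⟨k, hk⟩ := hd0 d i
      exact ⟨k, by rw [Algebra.smul_def, map_pow, hk]⟩
    rw [← hxd]
    show algebraMap B T (d : B) = 0
    rw [hd, map_zero]
  exact Algebra.Etale.of_equiv (AlgEquiv.ofBijective ψ ⟨hinj, hsurj⟩)

end etale

end GrothLib.EtLift16
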